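import Cfsg.Agent.Lib.Chev.SemiS
import Cfsg.Agent.Lib.Chev.StCenter
import Cfsg.Agent.Lib.Chev.FixField

/-!
The universal Chevalley groups over the algebraic closure of a finite field, and the passage to
the finite groups.
-/

namespace Cfsg.Lib.Chev

open Finset RootSys PreSys Cfsg.Lib.Alg Cfsg.Lie

section

variable {ι Φ : Type} [Fintype ι] [DecidableEq ι] [Fintype Φ] {R : RootSys ι Φ} {T : ChevTab R}
  {k : Type*} [Field k] {G : Type*} [Group G] {G' : Type*} [Group G']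

omit [Fintype Φ] in
theorem ChevTab.xA_map [DecidableEq Φ] (T : ChevTab R) {F : Type*} [Field F] (σ : F →+* k) (r : Φ)
    (t : F) : (T.xA F r t).map σ = T.xA k r (σ t) := by
  ext (i | s) (j | s') <;>
    simp [ChevTab.xA, Matrix.one_apply, apply_ite σ]

omit [Fintype Φ] in
theorem ChevTab.xA_poly [DecidableEq Φ] (T : ChevTab R) (r : Φ) (a : k) (i j : ι ⊕ Φ) :
    ∃ P : Polynomial k, ∀ t, T.xA k r (a * t) i j = P.eval t := by
  refine ⟨(1 + Matrix.fromBlocks 0
    (Matrix.of fun i s => if s = R.neg r then (R.co r i : Polynomial k) * .X else 0)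
    (Matrix.of fun u i => if u = r then -(R.pair (R.simple i) r : Polynomial k) * .X else 0)
    (Matrix.of fun u s => if s = r then 0 else if s = R.neg r then (if u = r then -.X ^ 2 else 0)
      else ∑ j ∈ range 3, if R.α u = (j + 1) • R.α r + R.α s then
        (T.M r s (j + 1) : Polynomial k) * .X ^ (j + 1) else 0) : Matrix _ _ (Polynomial k)) i j
    |>.comp (.C a * .X), fun t => ?_⟩
  rw [Polynomial.eval_comp]
  rcases i with i | s <;> rcases j with j | s' <;>
    simp [ChevTab.xA, Matrix.one_apply, apply_ite (Polynomial.eval _), Polynomial.eval_finsetSum]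

omit [Fintype Φ] in
theorem ChevTab.emb_refl (T : ChevTab R) : T.Emb T id id 1 where
  inj := Function.injective_id
  α_in _ _ := rfl
  α_out _ j h := absurd ⟨j, rfl⟩ h
  surj k _ := ⟨k, rfl⟩
  sq _ := rfl
  ε_simple _ := rfl
  ε_neg _ := rfl
  eqv := by simp

namespace ChevSys

variable {C : ChevSys R k G}

theorem Faithful.injective_of_emb [Nonempty ι] (hF : C.Faithful) (htop : C.grp = ⊤) (hc : R.Conn)
    (hM : C.HMul) {ι' Φ' : Type} [Fintype ι'] [DecidableEq ι'] [Fintype Φ'] {R' : RootSys ι' Φ'}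
    {T' : ChevTab R'} {C' : ChevSys R' k G'} (hF' : C'.Faithful) (hM' : C'.HMul)
    (hi : Function.Injective hM'.torus) {ρ : ι → ι'} {π : Φ → Φ'} {ε : Φ → ℤ}
    (hE : T.Emb T' ρ π ε) {φ : G →* G'} (hφ : ∀ r t, φ (C.x r t) = C'.x (π r) (ε r * t)) :
    Function.Injective φ ∧ Function.Injective hM.torus := by
  have h1 := (hM.map (C.isHom_map φ)).torus_injective_of_hom hM' hi hE.inj
    (φ := MonoidHom.id _) fun i t => by
      rw [MonoidHom.id_apply, ← (C.isHom_map φ).map_h, hE.map_h hφ]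
  refine ⟨(injective_iff_map_eq_one φ).2 fun g hg => ?_,
    hM.torus_injective_of_hom hM' hi hE.inj (hE.map_h hφ)⟩
  obtain ⟨i⟩ := ‹Nonempty ι›
  have h2 := hF.ker_le_center_of_inf htop hc (φ := φ) (U' := C'.U) (V' := C'.V)
    (fun r hr t => hφ r t ▸ C'.x_mem (hE.isPos.2 hr) _)
    (fun r hr t => hφ r t ▸ C'.x_mem (mt hE.isPos.1 hr) _) hF'.U_inf_V (r := R.simple i) (t := 1)
    (by simp [hφ, hF'.x_eq_one_iff, hE.ε_simple]) hg
  rw [hM.center_eq hF htop] at h2
  obtain ⟨c, -, rfl⟩ := h2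
  rw [hM.map_torus (hM.map (C.isHom_map φ)) (C.isHom_map φ)] at hg
  rw [(injective_iff_map_eq_one _).1 h1 c hg, map_one]

theorem Faithful.exists_alg [IsAlgClosed k] (p : ℕ) [Fact p.Prime] [CharP k p]
    (hk : ∀ t : k, ∃ n, 0 < n ∧ t ^ p ^ n = t) (hF : C.Faithful) (hM : C.HMul)
    (hT : T.StrongComm C.x) (hR : R.NoA1) (htop : C.grp = ⊤) (hi : Function.Injective hM.torus)
    {κ : Type*} [Fintype κ] [DecidableEq κ] (ρ : G →* Matrix κ κ k) (hρ : Function.Injective ρ)
    (hP : ∀ r i j, ∃ P : Polynomial k, ∀ t, ρ (C.x r t) i j = P.eval t)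
    (hq : ∀ r t, ρ (C.x r (t ^ p)) = (ρ (C.x r t)).map (· ^ p)) : ∃ φ, C.Alg T p φ := by
  obtain ⟨ψ, hψ⟩ := hF.exists_hom_of_torus hT hR htop (res_strongComm hT (frobenius k p)) hM
    (hM.res hT _) ((MonoidHom.ker_eq_bot_iff _).2 hi ▸ bot_le)
  have h1 : ρ.comp ψ = (frobenius k p).mapMatrix.toMonoidHom.comp ρ :=
    MonoidHom.eq_of_eqOn_dense htop (by
      rintro _ ⟨r, -, t, rfl⟩
      rw [MonoidHom.comp_apply, hψ]; exact hq r t)
  have h2 : ∀ g, ρ (ψ g) = (ρ g).map (· ^ p) := fun g => DFunLike.congr_fun h1 g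
  have h3 : Function.Bijective ψ := by
    refine ⟨fun a b e => hρ (Matrix.map_injective (frobenius_inj k p) ?_), hψ.surjective ?_⟩
    · exact (h2 a).symm.trans (e ▸ h2 b)
    · rw [eq_top_iff, ← htop]
      refine XS_le.2 fun r _ t => ?_
      obtain ⟨u, rfl⟩ := surjective_frobenius k p t
      exact (ChevSys.res hT (frobenius k p)).x_mem_grp r u
  have hp := (Fact.out : p.Prime).one_lt
  have h4 : ∀ n r t, ((show MulAut G from MulEquiv.ofBijective ψ h3) ^ n) (C.x r t) =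
      C.x r (t ^ p ^ n) := fun n r t => by
    induction n with
    | zero => simp
    | succ n ih => rw [pow_succ', MulAut.mul_apply, ih, pow_succ, pow_mul]; exact hψ r _
  refine ⟨MulEquiv.ofBijective ψ h3, hF, hM, hT, htop, hi, hψ, isFrob_of_rep ρ hρ hp h2 hk,
    fun n hn S => ?_⟩
  refine lang ρ hρ (fun r : S => C.x r) (fun r => C.x_zero r) (fun r t => (C.x_neg r t).symm)
    (fun r => hP r) ?_ (Nat.one_lt_pow hn.ne' hp)
    (σ := ((show MulAut G from MulEquiv.ofBijective ψ h3) ^ n).toMonoidHom)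
    (fun g _ => rep_pow ρ h2 n g) fun g hg =>
      field_mem_XS (θ := iterateFrobenius k p n) (h4 n) hg
  simp [XS]

namespace Alg

variable {p : ℕ} {φ : MulAut G} (h : C.Alg T p φ) [Fact p.Prime] [CharP k p] {n : ℕ}
  {F₀ : Type*} [Field F₀] [Finite F₀] (j : F₀ →+* k) (hF : Nat.card F₀ = p ^ n)

/-- The finite universal group as a Chevalley system. -/
noncomputable def fin : ChevSys R F₀ (fix (φ ^ n)) :=
  (res h.comm j).resTo _ (h.fix_eq_res j hF).ge

theorem coe_fin_x (r : Φ) (t : F₀) : ((h.fin j hF).x r t : G) = C.x r (j t) := rfl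

theorem fin_grp : (h.fin j hF).grp = ⊤ := resTo_grp _ _ (h.fix_eq_res j hF).le

theorem fin_faithful : (h.fin j hF).Faithful := (h.faithful.res h.comm j).resTo _

theorem fin_comm : T.StrongComm (h.fin j hF).x := strongComm_resTo _ (res_strongComm h.comm j)

theorem fin_hMul : (h.fin j hF).HMul :=
  .of_injective (isHom_resTo _ _) (Subgroup.subtype_injective _) (h.hMul.res h.comm j)

theorem coe_fin_torus (c : ι → F₀ˣ) :
    ((h.fin_hMul j hF).torus c : G) = h.tor fun i => uMap j (c i) :=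
  ((h.fin_hMul j hF).map_torus (h.hMul.res h.comm j) (isHom_resTo _ _) c).trans
    (h.hMul.res_torus h.comm j c)

theorem exists_proj (hR : R.NoA1) {C' : ChevSys R F₀ G'} (hT' : T.StrongComm C'.x)
    (hF' : C'.Faithful) (hA : C'.Adjoint) (htop : C'.grp = ⊤) :
    ∃ π : fix (φ ^ n) →* G', (h.fin j hF).IsHom C'.toPreSys π ∧ Function.Surjective π ∧
      π.ker = Subgroup.center _ ∧ π.ker = (R.kerChr F₀).map (h.fin_hMul j hF).torus := by
  obtain ⟨π, hπ⟩ := (h.fin_faithful j hF).exists_hom_of_adjoint (h.fin_comm j hF) hR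
    (h.fin_grp j hF) hT' hA
  have h1 := hF'.ker_eq_center hA hπ (h.fin_grp j hF)
  exact ⟨π, hπ, hπ.surjective htop, h1,
    h1.trans ((h.fin_hMul j hF).center_eq (h.fin_faithful j hF) (h.fin_grp j hF))⟩

theorem exists_equiv (hR : R.NoA1) {C' : ChevSys R F₀ G'} (hT' : T.StrongComm C'.x)
    (hF' : C'.Faithful) (hA : C'.Adjoint) (htop : C'.grp = ⊤) (h0 : R.kerChr F₀ = ⊥) :
    ∃ e : fix (φ ^ n) ≃* G', ∀ r t, e ((h.fin j hF).x r t) = C'.x r t := by
  obtain ⟨π, h1, h2, -, h3⟩ := h.exists_proj j hF hR hT' hF' hA htop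
  rw [h0, Subgroup.map_bot, MonoidHom.ker_eq_bot_iff] at h3
  exact ⟨MulEquiv.ofBijective π ⟨h3, h2⟩, h1⟩

end Alg

end ChevSys

end

/-- Tables of an embedding of D4 in E8. -/
def embD4E8 : EmbData where
  ρ := 0x4010302
  ρi := 0xffffff03010002ff
  w := 0x9894938988878f8e83828d7e71626d6c61606867665c5b57
  wi := 0xffffffffffffffffffffffffffffffffffffffffffffffffffffffffffffffffffffffffffffffffffffffffffffffffffffffffffffffffffffffffffffffffffffffffffffffffffffffffffffffffffffffffffffff17ffffff1615ffffff11100dffffff141312ffffff0f0effffff0cffffffffffffffffffffffff0bffffff0908ffffff050403ffffff0a0706ffffff0201ffffff00ffffffffffffffffffffffffffffffffffffffffffffffffffffffffffffffffffffffffffffffffffffffffffffffffffffffffffffffffffffffffffffffffffffffffffffffffffffffffffffffffffffffffffffff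
  e := 0x300c0

theorem embD4E8_chk : embChk chevD4 certD4 chevE8 certE8 embD4E8 = true := by decide +kernel

/-- Tables of an embedding of B2 in F4. -/
def embB2F4 : EmbData where
  ρ := 0x201
  ρi := 0xff0100ff
  w := 0x1e1c1b1916141311
  wi := 0xffffffffffffffffffffffffffffffffff07ff0605ff04ffff03ff0201ff00ffffffffffffffffffffffffffffffffff
  e := 0x0

theorem embB2F4_chk : embChk chevB2 certB2 chevF4 certF4 embB2F4 = true := by decide +kernel

variable (k : Type*) [Field k] [IsAlgClosed k] (p : ℕ) [Fact p.Prime] [CharP k p]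
  (hk : ∀ t : k, ∃ n, 0 < n ∧ t ^ p ^ n = t)
include hk

theorem Checked.exists_alg_of_emb {D D' : ChevalleyDatum} {c c' : Cert} (h : Checked D c)
    (hD : D ∈ types) (h' : Checked D' c') (h0 : h'.R.kerChr k = ⊥) {ρ : Fin D.rank → Fin D'.rank}
    {π : Fin D.nroots → Fin D'.nroots} {ε : Fin D.nroots → ℤ} (hE : h.T.Emb h'.T ρ π ε) :
    ∃ φ, (h.stSys k hD).Alg h.T p φ := by
  obtain ⟨ψ, hψ⟩ := h.exists_hom_of_emb hD k (h'.strongComm k) (h'.adjoint k).hMul hE
  have := Checked.nonempty_rank hD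
  obtain ⟨h1, h2⟩ := (h.stSys_faithful k hD).injective_of_emb (h.stSys_grp k hD) (h.conn hD)
    (h.stSys_hMul k hD) (h'.faithful k) (h'.adjoint k).hMul (by
      rw [← MonoidHom.ker_eq_bot_iff, (h'.adjoint k).ker_torus (h'.faithful k), h0]) hE
    (φ := ψ) fun r t => by rw [Checked.stSys_x, hψ]
  have h3 : ∀ r t, ((Units.coeHom _).comp ψ) ((h.stSys k hD).x r t) =
      h'.T.xA k (π r) (ε r * t) := fun r t => by
    rw [MonoidHom.comp_apply, Checked.stSys_x, hψ, ← h'.x_eq, ← h'.coe_x]; rfl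
  refine (h.stSys_faithful k hD).exists_alg p hk (h.stSys_hMul k hD) (h.stSys_strongComm k hD)
    (h.noA1 hD) (h.stSys_grp k hD) h2 ((Units.coeHom _).comp ψ) (Units.val_injective.comp h1)
    (fun r i j => ?_) fun r t => ?_
  · simp only [h3]
    exact h'.T.xA_poly _ _ i j
  · rw [h3, h3]
    refine .trans ?_ (h'.T.xA_map (frobenius k p) _ _).symm
    rw [map_mul, map_intCast, frobenius_def]

theorem Checked.exists_alg_of_chk {D D' : ChevalleyDatum} {c c' : Cert} (h : Checked D c)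
    (hD : D ∈ types) (h' : Checked D' c') (h0 : h'.R.kerChr k = ⊥) {E : EmbData}
    (hE : embChk D c D' c' E = true) : ∃ φ, (h.stSys k hD).Alg h.T p φ := by
  obtain ⟨ρ, π, ε, h1, -⟩ := h.exists_emb h' hE
  exact h.exists_alg_of_emb k p hk hD h' h0 h1

theorem algG2 : ∃ φ, (checkedG2.stSys k (by simp)).Alg checkedG2.T p φ :=
  checkedG2.exists_alg_of_emb k p hk _ _ (kerDataG2 _).kerChr_eq_bot (ChevTab.emb_refl _)

theorem algF4 : ∃ φ, (checkedF4.stSys k (by simp)).Alg checkedF4.T p φ :=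
  checkedF4.exists_alg_of_emb k p hk _ _ (kerDataF4 _).kerChr_eq_bot (ChevTab.emb_refl _)

theorem algE8 : ∃ φ, (checkedE8.stSys k (by simp)).Alg checkedE8.T p φ :=
  checkedE8.exists_alg_of_emb k p hk _ _ (kerDataE8 _).kerChr_eq_bot (ChevTab.emb_refl _)

theorem algB2 : ∃ φ, (checkedB2.stSys k (by simp)).Alg checkedB2.T p φ :=
  checkedB2.exists_alg_of_chk k p hk _ checkedF4 (kerDataF4 _).kerChr_eq_bot embB2F4_chk

theorem algD4 : ∃ φ, (checkedD4.stSys k (by simp)).Alg checkedD4.T p φ :=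
  checkedD4.exists_alg_of_chk k p hk _ checkedE8 (kerDataE8 _).kerChr_eq_bot embD4E8_chk

theorem algE6 : ∃ φ, (checkedE6.stSys k (by simp)).Alg checkedE6.T p φ :=
  checkedE6.exists_alg_of_chk k p hk _ checkedE8 (kerDataE8 _).kerChr_eq_bot embE6E8_chk

theorem algE7 : ∃ φ, (checkedE7.stSys k (by simp)).Alg checkedE7.T p φ :=
  checkedE7.exists_alg_of_chk k p hk _ checkedE8 (kerDataE8 _).kerChr_eq_bot embE7E8_chk

theorem exists_alg {D : ChevalleyDatum} (hD : D ∈ types) :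
    ∃ c, ∃ h : Checked D c, ∃ φ, (h.stSys k hD).Alg h.T p φ := by
  have hD' := hD
  simp only [List.mem_cons, List.not_mem_nil, or_false] at hD'
  rcases hD' with rfl | rfl | rfl | rfl | rfl | rfl | rfl
  exacts [⟨_, _, algG2 k p hk⟩, ⟨_, _, algB2 k p hk⟩, ⟨_, _, algD4 k p hk⟩, ⟨_, _, algF4 k p hk⟩,
    ⟨_, _, algE6 k p hk⟩, ⟨_, _, algE7 k p hk⟩, ⟨_, _, algE8 k p hk⟩]

end Cfsg.Lib.Chev
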