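import Cfsg.Agent.Lib.Chev.PoinCheck

/-!
Orbits of fundamental weights under parabolic subgroups of the Weyl groups.
-/

namespace Cfsg.Lib.Chev

/-- The Cartan matrix of type G2. -/
def cartanG2 : List (List ℤ) := [[2, -3], [-1, 2]]

/-- Part of an orbit. -/
def orbG2x0x0 : List (ℕ × ℕ) := [(137, 0), (183, 1), (90, 2), (182, 3), (89, 4), (135, 5)]

/-- Part of an orbit. -/
def orbG2x1x0 : List (ℕ × ℕ) := [(152, 0), (121, 1)]

/-- A chain of orbits for type G2. -/
def orbitsG2 : List (ℕ × ℕ × List (ℕ × ℕ)) := [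
  (0, 137, orbG2x0x0),
  (1, 152, orbG2x1x0)]

/-- The depths in these orbits. -/
def depthsG2 : List (List ℕ) := [[0, 1, 2, 3, 4, 5], [0, 1]]

theorem orbitsG2_chk : chainChk 2 cartanG2 [-46, 31] orbitsG2 = true ∧
    (∀ i < 2, i ∈ orbitsG2.map Prod.fst) ∧
    (orbitsG2.map fun s => s.2.2.map Prod.snd) = depthsG2 := by
  decide +kernel

/-- The Cartan matrix of type B2. -/
def cartanB2 : List (List ℤ) := [[2, -2], [-1, 2]]

/-- Part of an orbit. -/
def orbB2x0x0 : List (ℕ × ℕ) := [(137, 0), (167, 1), (105, 2), (135, 3)]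

/-- Part of an orbit. -/
def orbB2x1x0 : List (ℕ × ℕ) := [(152, 0), (121, 1)]

/-- A chain of orbits for type B2. -/
def orbitsB2 : List (ℕ × ℕ × List (ℕ × ℕ)) := [
  (0, 137, orbB2x0x0),
  (1, 152, orbB2x1x0)]

/-- The depths in these orbits. -/
def depthsB2 : List (List ℕ) := [[0, 1, 2, 3], [0, 1]]

theorem orbitsB2_chk : chainChk 2 cartanB2 [-30, 31] orbitsB2 = true ∧
    (∀ i < 2, i ∈ orbitsB2.map Prod.fst) ∧
    (orbitsB2.map fun s => s.2.2.map Prod.snd) = depthsB2 := by
  decide +kernel

/-- The Cartan matrix of type D4. -/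
def cartanD4 : List (List ℤ) := [[2, -1, 0, 0], [-1, 2, -1, -1], [0, -1, 2, 0], [0, -1, 0, 2]]

/-- Part of an orbit. -/
def orbD4x0x0 : List (ℕ × ℕ) := [(39048, 0), (30872, 1), (35193, 2), (34697, 3), (35207, 3), (34711,
    4), (39032, 5), (30856, 6)]

/-- Part of an orbit. -/
def orbD4x1x0 : List (ℕ × ℕ) := [(35208, 0), (34712, 1), (39033, 2), (39047, 3)]

/-- Part of an orbit. -/
def orbD4x2x0 : List (ℕ × ℕ) := [(34968, 0), (39289, 1), (39303, 2)]

/-- Part of an orbit. -/
def orbD4x3x0 : List (ℕ × ℕ) := [(34953, 0), (34967, 1)]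

/-- A chain of orbits for type D4. -/
def orbitsD4 : List (ℕ × ℕ × List (ℕ × ℕ)) := [
  (3, 39048, orbD4x0x0),
  (2, 35208, orbD4x1x0),
  (1, 34968, orbD4x2x0),
  (0, 34953, orbD4x3x0)]

/-- The depths in these orbits. -/
def depthsD4 : List (List ℕ) := [[0, 1, 2, 3, 3, 4, 5, 6], [0, 1, 2, 3], [0, 1, 2], [0, 1]]

theorem orbitsD4_chk : chainChk 4 cartanD4 [-14, -4321, 496, 8176] orbitsD4 = true ∧
    (∀ i < 4, i ∈ orbitsD4.map Prod.fst) ∧
    (orbitsD4.map fun s => s.2.2.map Prod.snd) = depthsD4 := by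
  decide +kernel

/-- The Cartan matrix of type F4. -/
def cartanF4 : List (List ℤ) := [[2, -1, 0, 0], [-1, 2, -2, 0], [0, -1, 2, -1], [0, 0, -1, 2]]

/-- Part of an orbit. -/
def orbF4x0x0 : List (ℕ × ℕ) := [(34953, 0), (34967, 1), (35448, 2), (42648, 3), (26776, 4), (43129,
    4), (27257, 5), (43143, 5), (27271, 6), (34457, 6), (34471, 7), (34938, 7), (35433, 8), (34966,
    8), (35447, 9), (42633, 9), (42647, 10), (26761, 10), (26775, 11), (43128, 11), (27256, 12),
    (34456, 13), (34937, 14), (34951, 15)]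

/-- Part of an orbit. -/
def orbF4x1x0 : List (ℕ × ℕ) := [(39048, 0), (31112, 1), (34712, 2), (35193, 3), (38793, 4), (30857,
    5)]

/-- Part of an orbit. -/
def orbF4x2x0 : List (ℕ × ℕ) := [(34968, 0), (35449, 1), (42649, 2), (43130, 3)]

/-- Part of an orbit. -/
def orbF4x3x0 : List (ℕ × ℕ) := [(35208, 0), (38808, 1)]

/-- A chain of orbits for type F4. -/
def orbitsF4 : List (ℕ × ℕ × List (ℕ × ℕ)) := [
  (0, 34953, orbF4x0x0),
  (3, 39048, orbF4x1x0),
  (1, 34968, orbF4x2x0),
  (2, 35208, orbF4x3x0)]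

/-- The depths in these orbits. -/
def depthsF4 : List (List ℕ) := [[0, 1, 2, 3, 4, 4, 5, 5, 6, 6, 7, 7, 8, 8, 9, 9, 10, 10, 11, 11,
    12, 13, 14, 15], [0, 1, 2, 3, 4, 5], [0, 1, 2, 3], [0, 1]]

theorem orbitsF4_chk : chainChk 4 cartanF4 [-14, -481, -3600, 7936] orbitsF4 = true ∧
    (∀ i < 4, i ∈ orbitsF4.map Prod.fst) ∧
    (orbitsF4.map fun s => s.2.2.map Prod.snd) = depthsF4 := by
  decide +kernel

/-- The Cartan matrix of type E6. -/
def cartanE6 : List (List ℤ) := [[2, 0, -1, 0, 0, 0], [0, 2, 0, -1, 0, 0], [-1, 0, 2, -1, 0, 0], [0,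
    -1, -1, 2, -1, 0], [0, 0, 0, -1, 2, -1], [0, 0, 0, 0, -1, 2]]

/-- Part of an orbit. -/
def orbE6x0x0 : List (ℕ × ℕ) := [(9996424, 0), (7964808, 1), (8886408, 2), (8944024, 3), (8948088,
    4), (8947609, 4), (8951673, 5), (8947863, 5), (8951927, 6), (9009289, 6), (9009543, 7),
    (9930889, 7), (9013128, 8), (9931143, 8), (7899273, 8), (9934728, 9), (7899527, 9), (7903112,
    10), (9992344, 10), (7960728, 11), (9996408, 11), (7964792, 12), (8882328, 12), (8886392, 13),
    (8944008, 14), (8947593, 15), (8947847, 16)]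

/-- Part of an orbit. -/
def orbE6x1x0 : List (ℕ × ℕ) := [(8947849, 0), (8948103, 1), (8951688, 2), (9009304, 3), (9013368,
    4), (9930904, 4), (9934968, 5), (9992584, 6), (9996169, 7), (9996423, 8)]

/-- Part of an orbit. -/
def orbE6x2x0 : List (ℕ × ℕ) := [(8947864, 0), (8951928, 1), (9009544, 2), (9013129, 3), (9931144,
    3), (9934729, 4), (9992345, 5), (9996409, 6)]

/-- Part of an orbit. -/
def orbE6x3x0 : List (ℕ × ℕ) := [(8948104, 0), (8951689, 1), (9009305, 2), (9930905, 3)]

/-- Part of an orbit. -/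
def orbE6x4x0 : List (ℕ × ℕ) := [(8951944, 0), (9009560, 1), (9931160, 2)]

/-- Part of an orbit. -/
def orbE6x5x0 : List (ℕ × ℕ) := [(9013384, 0), (9934984, 1)]

/-- A chain of orbits for type E6. -/
def orbitsE6 : List (ℕ × ℕ × List (ℕ × ℕ)) := [
  (5, 9996424, orbE6x0x0),
  (0, 8947849, orbE6x1x0),
  (1, 8947864, orbE6x2x0),
  (2, 8948104, orbE6x3x0),
  (3, 8951944, orbE6x4x0),
  (4, 9013384, orbE6x5x0)]

/-- The depths in these orbits. -/
def depthsE6 : List (List ℕ) := [[0, 1, 2, 3, 4, 4, 5, 5, 6, 6, 7, 7, 8, 8, 8, 9, 9, 10, 10, 11, 11,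
    12, 12, 13, 14, 15, 16], [0, 1, 2, 3, 4, 4, 5, 6, 7, 8], [0, 1, 2, 3, 3, 4, 5, 6], [0, 1, 2, 3],
    [0, 1, 2], [0, 1]]

theorem orbitsE6_chk : chainChk 6 cartanE6 [-254, -4064, -3585, -57616, -921600, 2031616] orbitsE6 =
    true ∧
    (∀ i < 6, i ∈ orbitsE6.map Prod.fst) ∧
    (orbitsE6.map fun s => s.2.2.map Prod.snd) = depthsE6 := by
  decide +kernel

/-- The Cartan matrix of type E7. -/
def cartanE7 : List (List ℤ) := [[2, 0, -1, 0, 0, 0, 0], [0, 2, 0, -1, 0, 0, 0], [-1, 0, 2, -1, 0,
    0, 0], [0, -1, -1, 2, -1, 0, 0], [0, 0, 0, -1, 2, -1, 0], [0, 0, 0, 0, -1, 2, -1], [0, 0, 0, 0,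
    0, -1, 2]]

/-- Part of an orbit. -/
def orbE7x0x0 : List (ℕ × ℕ) := [(159942792, 0), (127436936, 1), (142182536, 2), (143104136, 3),
    (143161752, 4), (143165816, 5), (143165337, 5), (143169401, 6), (143165591, 6), (143169655, 7),
    (143227017, 7), (143227271, 8), (144148617, 8), (143230856, 9), (144148871, 9), (158894217, 9),
    (144152456, 10), (158894471, 10), (126388361, 10), (158898056, 11), (144210072, 11), (126388615,
    11), (126392200, 12), (158955672, 12), (144214136, 12), (126449816, 13), (158959736, 13),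
    (159877272, 13), (126453880, 14), (127371416, 14), (159881336, 14), (127375480, 15), (142117016,
    15), (159938952, 15), (142121080, 16), (127433096, 16), (159942537, 16), (142178696, 17),
    (127436681, 17), (159942791, 17), (142182281, 18), (143100296, 18), (127436935, 18), (142182535,
    19), (143103881, 19), (143104135, 20), (143161497, 20), (143161751, 21), (143165561, 21),
    (143165815, 22), (143165336, 22), (143169400, 23), (143227016, 24), (144148616, 25), (158894216,
    26), (126388360, 27)]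

/-- Part of an orbit. -/
def orbE7x1x0 : List (ℕ × ℕ) := [(144214152, 0), (158959752, 1), (159881352, 2), (159938968, 3),
    (159943032, 4), (159942553, 4), (159946617, 5), (159942807, 5), (159946871, 6), (160004233, 6),
    (160004487, 7), (160925833, 7), (160008072, 8), (160926087, 8), (175671433, 8), (160929672, 9),
    (175671687, 9), (175675272, 10), (160987288, 10), (175732888, 11), (160991352, 11), (175736952,
    12), (176654488, 12), (176658552, 13), (176716168, 14), (176719753, 15), (176720007, 16)]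

/-- Part of an orbit. -/
def orbE7x2x0 : List (ℕ × ℕ) := [(143165577, 0), (143165831, 1), (143169416, 2), (143227032, 3),
    (143231096, 4), (144148632, 4), (144152696, 5), (144210312, 6), (144213897, 7), (144214151, 8)]

/-- Part of an orbit. -/
def orbE7x3x0 : List (ℕ × ℕ) := [(143165592, 0), (143169656, 1), (143227272, 2), (143230857, 3),
    (144148872, 3), (144152457, 4), (144210073, 5), (144214137, 6)]

/-- Part of an orbit. -/
def orbE7x4x0 : List (ℕ × ℕ) := [(143165832, 0), (143169417, 1), (143227033, 2), (144148633, 3)]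

/-- Part of an orbit. -/
def orbE7x5x0 : List (ℕ × ℕ) := [(143169672, 0), (143227288, 1), (144148888, 2)]

/-- Part of an orbit. -/
def orbE7x6x0 : List (ℕ × ℕ) := [(143231112, 0), (144152712, 1)]

/-- A chain of orbits for type E7. -/
def orbitsE7 : List (ℕ × ℕ × List (ℕ × ℕ)) := [
  (6, 159942792, orbE7x0x0),
  (5, 144214152, orbE7x1x0),
  (0, 143165577, orbE7x2x0),
  (1, 143165592, orbE7x3x0),
  (2, 143165832, orbE7x4x0),
  (3, 143169672, orbE7x5x0),
  (4, 143231112, orbE7x6x0)]

/-- The depths in these orbits. -/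
def depthsE7 : List (List ℕ) := [[0, 1, 2, 3, 4, 5, 5, 6, 6, 7, 7, 8, 8, 9, 9, 9, 10, 10, 10, 11,
    11, 11, 12, 12, 12, 13, 13, 13, 14, 14, 14, 15, 15, 15, 16, 16, 16, 17, 17, 17, 18, 18, 18, 19,
    19, 20, 20, 21, 21, 22, 22, 23, 24, 25, 26, 27], [0, 1, 2, 3, 4, 4, 5, 5, 6, 6, 7, 7, 8, 8, 8,
    9, 9, 10, 10, 11, 11, 12, 12, 13, 14, 15, 16], [0, 1, 2, 3, 4, 4, 5, 6, 7, 8], [0, 1, 2, 3, 3,
    4, 5, 6], [0, 1, 2, 3], [0, 1, 2], [0, 1]]

theorem orbitsE7_chk : chainChk 7 cartanE7 [-254, -4064, -3585, -57616, -921600, -14745600,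
    32505856] orbitsE7 = true ∧
    (∀ i < 7, i ∈ orbitsE7.map Prod.fst) ∧
    (orbitsE7.map fun s => s.2.2.map Prod.snd) = depthsE7 := by
  decide +kernel

/-- The Cartan matrix of type E8. -/
def cartanE8 : List (List ℤ) := [[2, 0, -1, 0, 0, 0, 0, 0], [0, 2, 0, -1, 0, 0, 0, 0], [-1, 0, 2,
    -1, 0, 0, 0, 0], [0, -1, -1, 2, -1, 0, 0, 0], [0, 0, 0, -1, 2, -1, 0, 0], [0, 0, 0, 0, -1, 2,
    -1, 0], [0, 0, 0, 0, 0, -1, 2, -1], [0, 0, 0, 0, 0, 0, -1, 2]]

/-- Part of an orbit. -/
def orbE8x0x0 : List (ℕ × ℕ) := [(2559084680, 0), (2038990984, 1), (2274920584, 2), (2289666184, 3),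
    (2290587784, 4), (2290645400, 5), (2290649464, 6), (2290648985, 6), (2290653049, 7),
    (2290649239, 7), (2290653303, 8), (2290710665, 8), (2290710919, 9), (2291632265, 9),
    (2290714504, 10), (2291632519, 10), (2306377865, 10), (2291636104, 11), (2306378119, 11),
    (2542307465, 11), (2306381704, 12), (2291693720, 12), (2542307719, 12), (2022213769, 12),
    (2542311304, 13), (2306439320, 13), (2291697784, 13), (2022214023, 13), (2022217608, 14),
    (2542368920, 14), (2306443384, 14), (2307360920, 14), (2022275224, 15), (2542372984, 15),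
    (2543290520, 15), (2307364984, 15), (2022279288, 16), (2023196824, 16), (2543294584, 16),
    (2558036120, 16), (2307422600, 16), (2023200888, 17), (2037942424, 17), (2558040184, 17),
    (2543352200, 17), (2307426185, 17), (2037946488, 18), (2023258504, 18), (2273872024, 18),
    (2558097800, 18), (2543355785, 18), (2307426439, 18), (2273876088, 19), (2038004104, 19),
    (2023262089, 19), (2558101385, 19), (2559019400, 19), (2543356039, 19), (2273933704, 20),
    (2038007689, 20)]

/-- Part of an orbit. -/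
def orbE8x0x1 : List (ℕ × ℕ) := [(2038925704, 20), (2023262343, 20), (2558101639, 20), (2559022985,
    20), (2273937289, 21), (2274855304, 21), (2038007943, 21), (2038929289, 21), (2559023239, 21),
    (2559080601, 21), (2273937543, 22), (2274858889, 22), (2289600904, 22), (2038929543, 22),
    (2038986905, 22), (2559080855, 22), (2559084665, 22), (2274859143, 23), (2289604489, 23),
    (2274916505, 23), (2038987159, 23), (2038990969, 23), (2559084919, 23), (2559084440, 23),
    (2289604743, 24), (2274916759, 24), (2289662105, 24), (2274920569, 24), (2038991223, 24),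
    (2038990744, 24), (2559088504, 24), (2289662359, 25), (2274920823, 25), (2274920344, 25),
    (2289666169, 25), (2290583705, 25), (2038994808, 25), (2559146120, 25), (2289666423, 26),
    (2289665944, 26), (2290583959, 26), (2274924408, 26), (2290587769, 26), (2039052424, 26),
    (2560067720, 26), (2289670008, 27), (2290588023, 27), (2290587544, 27), (2274982024, 27),
    (2290645385, 27), (2039974024, 27), (2574813320, 27), (2289727624, 28), (2290591608, 28),
    (2290645639, 28), (2290645160, 28), (2275903624, 28), (2290648970, 28), (2054719624, 28),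
    (2810742920, 28)]

/-- Part of an orbit. -/
def orbE8x0x2 : List (ℕ × ℕ) := [(2291570824, 29), (2290706840, 29), (2290652809, 29), (2290653288,
    29), (2305394824, 29), (2290649478, 29), (2526578824, 29), (1770555528, 29), (2306316424, 30),
    (2291628440, 30), (2290710904, 30), (2290710425, 30), (2290653063, 30), (2541324424, 30),
    (2006485128, 30), (2542246024, 31), (2306374040, 31), (2291632504, 31), (2291632025, 31),
    (2290714489, 31), (2290710679, 31), (2021230728, 31), (2022152328, 32), (2542303640, 32),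
    (2306378104, 32), (2306377625, 32), (2291636089, 32), (2291632279, 32), (2290714743, 32),
    (2022209944, 33), (2542307704, 33), (2542307225, 33), (2306381689, 33), (2306377879, 33),
    (2291636343, 33), (2291693705, 33), (2022214008, 34), (2022213529, 34), (2542311289, 34),
    (2542307479, 34), (2306381943, 34), (2306439305, 34), (2291693959, 34), (2022217593, 35),
    (2022213783, 35), (2542311543, 35), (2542368905, 35), (2306439559, 35), (2307360905, 35),
    (2291697544, 35), (2022217847, 36), (2022275209, 36), (2542369159, 36), (2543290505, 36),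
    (2306443144, 36), (2307361159, 36), (2022275463, 37), (2023196809, 37), (2542372744, 37),
    (2543290759, 37)]

/-- Part of an orbit. -/
def orbE8x0x3 : List (ℕ × ℕ) := [(2558036105, 37), (2307364744, 37), (2022279048, 38), (2023197063,
    38), (2037942409, 38), (2543294344, 38), (2558036359, 38), (2307422360, 38), (2023200648, 39),
    (2037942663, 39), (2273872009, 39), (2558039944, 39), (2543351960, 39), (2307426424, 39),
    (2037946248, 40), (2023258264, 40), (2273872263, 40), (2558097560, 40), (2543356024, 40),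
    (2273875848, 41), (2038003864, 41), (2023262328, 41), (2558101624, 41), (2559019160, 41),
    (2273933464, 42), (2038007928, 42), (2038925464, 42), (2559023224, 42), (2273937528, 43),
    (2274855064, 43), (2038929528, 43), (2559080840, 43), (2274859128, 44), (2289600664, 44),
    (2038987144, 44), (2559084425, 44), (2289604728, 45), (2274916744, 45), (2038990729, 45),
    (2559084679, 45), (2289662344, 46), (2274920329, 46), (2038990983, 46), (2289665929, 47),
    (2290583944, 47), (2274920583, 47), (2289666183, 48), (2290587529, 48), (2290587783, 49),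
    (2290645145, 49), (2290645399, 50), (2290649209, 50), (2290649463, 51), (2290648984, 51),
    (2290653048, 52), (2290710664, 53), (2291632264, 54), (2306377864, 55), (2542307464, 56),
    (2022213768, 57)]

/-- Part of an orbit. -/
def orbE8x1x0 : List (ℕ × ℕ) := [(2307426440, 0), (2543356040, 1), (2558101640, 2), (2559023240, 3),
    (2559080856, 4), (2559084920, 5), (2559084441, 5), (2559088505, 6), (2559084695, 6),
    (2559088759, 7), (2559146121, 7), (2559146375, 8), (2560067721, 8), (2559149960, 9),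
    (2560067975, 9), (2574813321, 9), (2560071560, 10), (2574813575, 10), (2810742921, 10),
    (2574817160, 11), (2560129176, 11), (2810743175, 11), (2810746760, 12), (2574874776, 12),
    (2560133240, 12), (2810804376, 13), (2574878840, 13), (2575796376, 13), (2810808440, 14),
    (2811725976, 14), (2575800440, 14), (2811730040, 15), (2826471576, 15), (2575858056, 15),
    (2826475640, 16), (2811787656, 16), (2575861641, 16), (2826533256, 17), (2811791241, 17),
    (2575861895, 17), (2826536841, 18), (2827454856, 18), (2811791495, 18), (2826537095, 19),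
    (2827458441, 19), (2827458695, 20), (2827516057, 20), (2827516311, 21), (2827520121, 21),
    (2827520375, 22), (2827519896, 22), (2827523960, 23), (2827581576, 24), (2828503176, 25),
    (2843248776, 26), (3079178376, 27)]

/-- Part of an orbit. -/
def orbE8x2x0 : List (ℕ × ℕ) := [(2291697800, 0), (2306443400, 1), (2307365000, 2), (2307422616, 3),
    (2307426680, 4), (2307426201, 4), (2307430265, 5), (2307426455, 5), (2307430519, 6),
    (2307487881, 6), (2307488135, 7), (2308409481, 7), (2307491720, 8), (2308409735, 8),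
    (2323155081, 8), (2308413320, 9), (2323155335, 9), (2323158920, 10), (2308470936, 10),
    (2323216536, 11), (2308475000, 11), (2323220600, 12), (2324138136, 12), (2324142200, 13),
    (2324199816, 14), (2324203401, 15), (2324203655, 16)]

/-- Part of an orbit. -/
def orbE8x3x0 : List (ℕ × ℕ) := [(2290649225, 0), (2290649479, 1), (2290653064, 2), (2290710680, 3),
    (2290714744, 4), (2291632280, 4), (2291636344, 5), (2291693960, 6), (2291697545, 7),
    (2291697799, 8)]

/-- Part of an orbit. -/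
def orbE8x4x0 : List (ℕ × ℕ) := [(2290649240, 0), (2290653304, 1), (2290710920, 2), (2290714505, 3),
    (2291632520, 3), (2291636105, 4), (2291693721, 5), (2291697785, 6)]

/-- Part of an orbit. -/
def orbE8x5x0 : List (ℕ × ℕ) := [(2290649480, 0), (2290653065, 1), (2290710681, 2), (2291632281, 3)]

/-- Part of an orbit. -/
def orbE8x6x0 : List (ℕ × ℕ) := [(2290653320, 0), (2290710936, 1), (2291632536, 2)]

/-- Part of an orbit. -/
def orbE8x7x0 : List (ℕ × ℕ) := [(2290714760, 0), (2291636360, 1)]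

/-- A chain of orbits for type E8. -/
def orbitsE8 : List (ℕ × ℕ × List (ℕ × ℕ)) := [
  (7, 2559084680, orbE8x0x0 ++ orbE8x0x1 ++ orbE8x0x2 ++ orbE8x0x3),
  (6, 2307426440, orbE8x1x0),
  (5, 2291697800, orbE8x2x0),
  (0, 2290649225, orbE8x3x0),
  (1, 2290649240, orbE8x4x0),
  (2, 2290649480, orbE8x5x0),
  (3, 2290653320, orbE8x6x0),
  (4, 2290714760, orbE8x7x0)]

/-- The depths in these orbits. -/
def depthsE8 : List (List ℕ) := [[0, 1, 2, 3, 4, 5, 6, 6, 7, 7, 8, 8, 9, 9, 10, 10, 10, 11, 11, 11,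
    12, 12, 12, 12, 13, 13, 13, 13, 14, 14, 14, 14, 15, 15, 15, 15, 16, 16, 16, 16, 16, 17, 17, 17,
    17, 17, 18, 18, 18, 18, 18, 18, 19, 19, 19, 19, 19, 19, 20, 20, 20, 20, 20, 20, 21, 21, 21, 21,
    21, 21, 22, 22, 22, 22, 22, 22, 22, 23, 23, 23, 23, 23, 23, 23, 24, 24, 24, 24, 24, 24, 24, 25,
    25, 25, 25, 25, 25, 25, 26, 26, 26, 26, 26, 26, 26, 27, 27, 27, 27, 27, 27, 27, 28, 28, 28, 28,
    28, 28, 28, 28, 29, 29, 29, 29, 29, 29, 29, 29, 30, 30, 30, 30, 30, 30, 30, 31, 31, 31, 31, 31,
    31, 31, 32, 32, 32, 32, 32, 32, 32, 33, 33, 33, 33, 33, 33, 33, 34, 34, 34, 34, 34, 34, 34, 35,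
    35, 35, 35, 35, 35, 35, 36, 36, 36, 36, 36, 36, 37, 37, 37, 37, 37, 37, 38, 38, 38, 38, 38, 38,
    39, 39, 39, 39, 39, 39, 40, 40, 40, 40, 40, 41, 41, 41, 41, 41, 42, 42, 42, 42, 43, 43, 43, 43,
    44, 44, 44, 44, 45, 45, 45, 45, 46, 46, 46, 47, 47, 47, 48, 48, 49, 49, 50, 50, 51, 51, 52, 53,
    54, 55, 56, 57], [0, 1, 2, 3, 4, 5, 5, 6, 6, 7, 7, 8, 8, 9, 9, 9, 10, 10, 10, 11, 11, 11, 12,
    12, 12, 13, 13, 13, 14, 14, 14, 15, 15, 15, 16, 16, 16, 17, 17, 17, 18, 18, 18, 19, 19, 20, 20,
    21, 21, 22, 22, 23, 24, 25, 26, 27], [0, 1, 2, 3, 4, 4, 5, 5, 6, 6, 7, 7, 8, 8, 8, 9, 9, 10, 10,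
    11, 11, 12, 12, 13, 14, 15, 16], [0, 1, 2, 3, 4, 4, 5, 6, 7, 8], [0, 1, 2, 3, 3, 4, 5, 6], [0,
    1, 2, 3], [0, 1, 2], [0, 1]]

theorem orbitsE8_chk : chainChk 8 cartanE8 [-254, -4064, -3585, -57616, -921600, -14745600,
    -235929600, 520093696] orbitsE8 = true ∧
    (∀ i < 8, i ∈ orbitsE8.map Prod.fst) ∧
    (orbitsE8.map fun s => s.2.2.map Prod.snd) = depthsE8 := by
  decide +kernel

end Cfsg.Lib.Chev
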