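import Cfsg.Agent.Lib.Chev.Checked
import Cfsg.Prelude.Def_ChevE6

/-!
The checks for the Chevalley datum of type E6.
-/

namespace Cfsg.Lib.Chev

open Cfsg.Lie

set_option maxRecDepth 100000

/-- Auxiliary tables for type E6. -/
def certE6 : Cert where
  rt := 0x8182838282818182838281818182828281818181828281818081828281818182828181818181828181818081828181818181818181818081818181818080818181818181818180818081818180818080818180818080808180818080808080818182828181808181828181808081828181808181818181808081818181808080818181808181818081808081818081808080818081808080808081808181818180808081818180808080818180808080808180808181818080808081818080808080818080808181808080808081808080808180808080807f8080808080807f808080807f7f8080808080807f808080807f7f8080807f7f7f8080808080807f808080807f7f8080807f7f7f80807f7f7f7f8080808080807f8080807f807f80807f7f807f807f7f7f807f8080807f7f7f80807f7f7f7f807f7f7f7f7f80807f7e7f7f807f7f7e7f7f807f7e7e7f7f8080808080807f8080807f807f80807f7f807f807f7f7f807f7f7f7f7f807f80807f7f7f7f807f7f7f7f7f7f7f7f7f7f7f807f7e7f7f7f7f7f7e7f7f7f7f7e7e7f7f7f807f7e7e7f7f7f7f7e7e7f7f7f7e7e7e7f7f7f7e7d7e7f7f7f7e7d7e7e7f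
  ln := 0x10101010101010101010101010101010101010101010101010101010101010101010101010101010101010101010101010101010101010101010101010101010101010101010101
  ws := [(0x47464544433736353433322d2c2b2a0f4241403f3e3d31302f2e3c3b3a39292827262524232221201f1e0e0d0c0b191817160a0908070605381d1c1b1a1514131211100403020100, 0x1fc3c003c3f8000),
    (0x46474544434241403c3b3a3f3e3d39383736352d2c2b292827193433322a31302f2625242322211817161d1514132e201f1e1c1b1a1211100f0e0a09080d0c0b0706050403020001, 0x80e01c4381c2380701),
    (0x47464241404544433f3e3d3c3b3a383937363531302f3433322e2928271d2d2c2b2625242322211c1b1a2a201f1e191514131817161211100e0f0d0c0b0a09080403020706050100, 0x38021c0781e038401c),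
    (0x4745464443423f3e41403d3c3b393a3837343336353231302e2f2d2c2a2b262520292824231f1e2722211c1d1b1a181917161512111413100f0d0e0c0b0a07060908050403010200, 0x43046088e7110620c2),
    (0x47464445434142403f3d3e3c3a3b3938363735343233312f302e2d2b2c2a2927282422262125231f201e1d1b1c1a191718161415131210110f0e0c0d0b090a080705060402030100, 0x244889113c88911224),
    (0x47464543444240413e3f3d3b3c3a393837353633343230312f2e2c2d2b2a282927252623242122201e1f1d1c1a1b191816171513141112100f0e0d0b0c0a08090607050304020100, 0x129052225a444a0948)]

theorem certE6_root1_0 : allTo 72 (rootChk1 chevE6 certE6) = true := by decide +kernel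

theorem certE6_root2_0 : allTo 4 (rootChk2 chevE6 certE6) = true := by decide +kernel

theorem certE6_root2_1 : allFrom 4 2 (rootChk2 chevE6 certE6) = true := by decide +kernel

theorem certE6_rows_0 : allTo 72 (rowChk chevE6) = true := by decide +kernel

theorem certE6_eqv_0 : allTo 60 (eqvChk chevE6 certE6) = true := by decide +kernel

theorem certE6_eqv_1 : allFrom 60 12 (eqvChk chevE6 certE6) = true := by decide +kernel

theorem certE6_nmat_0 : allTo 2 (nChk chevE6 certE6) = true := by decide +kernel

theorem certE6_nmat_1 : allFrom 2 2 (nChk chevE6 certE6) = true := by decide +kernel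

theorem certE6_nmat_2 : allFrom 4 2 (nChk chevE6 certE6) = true := by decide +kernel

theorem certE6_base_0 : allTo 72 (baseChk chevE6 certE6) = true := by decide +kernel

theorem checkedE6 : Checked chevE6 certE6 where
  le := by decide
  root1 := by exact certE6_root1_0
  root2 := by exact (allTo_add (a := 4) (k := 2) certE6_root2_0 certE6_root2_1)
  rows := by exact certE6_rows_0
  eqv := by exact (allTo_add (a := 60) (k := 12) certE6_eqv_0 certE6_eqv_1)
  nmat := by exact (allTo_add (a := 4) (k := 2) (allTo_add (a := 2) (k := 2) certE6_nmat_0 certE6_nmat_1) certE6_nmat_2)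
  base := by exact certE6_base_0

end Cfsg.Lib.Chev
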