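import Cfsg.Agent.Lib.Chev.InvolChk
import Cfsg.Agent.Lib.Chev.CertE6

/-!
The classes of involutions of the Chevalley group of type E6 in characteristic two.
-/

namespace Cfsg.Lib.Chev

open Cfsg.Lie

set_option maxRecDepth 100000
set_option maxHeartbeats 4000000

variable {F : Type*} [Field F] [CharP F 2]

/-- Leaves of the tree of canonical lists. -/
def lvE6 : List (List ℕ × List ℕ × List ℕ × List ℕ) :=
  [([], [], [], []), ([71], [], [], [71]), ([71, 60], [4, 3, 1], [], [68, 66]), ([71, 60, 44], [0,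
  2, 3, 1, 0], [], [55, 65, 67])]

/-- Reducible canonical lists. -/
def stE6 : List (List ℕ × List ℕ × List ℕ) :=
  [([71, 60, 44, 39], [8, 20, 47, 25], [71, 60, 44])]

theorem treeE6 : treeB chevE6 certE6 (lvE6.map Prod.fst) (stE6.map fun s => (s.1, s.2.1)) 9
    (List.range chevE6.rank) [] = true := by decide +kernel

theorem exists_isConj_E6 [Finite F] {t : chevE6.group F} (ht : t * t = 1) :
    ∃ l ∈ [] :: [[71], [68, 66], [55, 65, 67]], IsConj t (checkedE6.xl F l) :=
  checkedE6.exists_isConj_xl (noG2_of_ln (by decide +kernel)) true (by decide +kernel) treeE6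
    (by decide +kernel) (by decide +kernel) ht

theorem xl_sq_E6 : ∀ l ∈ [[71], [68, 66], [55, 65, 67]],
    checkedE6.xl F l * checkedE6.xl F l = 1 := fun l hl =>
  checkedE6.xl_mul_self (by revert l; decide +kernel)

/-- A rank certificate. -/
def rkE6a : List ℕ × List (ℕ × ℕ) × List (ℕ × ℕ) :=
  ([71], mkL [([2], 143), ([1, 2], 0), ([3], 93), ([5], 95), ([7], 97), ([9], 99), ([11], 101),
  ([13], 103), ([15], 105), ([17], 107), ([19], 109), ([21], 111), ([33], 123), ([35], 125),
  ([37], 127), ([39], 129), ([41], 131), ([43], 133), ([45], 135), ([47], 137), ([49], 139),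
  ([51], 141)], mkL [([0], 0), ([4], 4), ([6], 6), ([8], 8), ([10], 10), ([23], 23), ([25], 25),
  ([27], 27), ([29], 29), ([31], 31), ([53], 53), ([55], 55), ([57], 57), ([59], 59), ([61], 61),
  ([63], 63), ([65], 65), ([67], 67), ([69], 69), ([71], 71), ([73], 73), ([75], 75), ([77], 77),
  ([79], 79), ([81], 81), ([83], 83), ([85], 85), ([87], 87), ([89], 89), ([91], 91), ([93], 93),
  ([95], 95), ([97], 97), ([99], 99), ([101], 101), ([103], 103), ([105], 105), ([107], 107),
  ([109], 109), ([111], 111), ([113], 113), ([115], 115), ([117], 117), ([119], 119), ([121],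
  121), ([123], 123), ([125], 125), ([127], 127), ([129], 129), ([131], 131), ([133], 133),
  ([135], 135), ([137], 137), ([139], 139), ([141], 141), ([143], 143)])

theorem rkE6a_chk : rankChk chevE6 rkE6a.1 rkE6a.2.1 rkE6a.2.2 = true := by
  decide +kernel

/-- A rank certificate. -/
def rkE6b : List ℕ × List (ℕ × ℕ) × List (ℕ × ℕ) :=
  ([68, 66], mkL [([0], 133), ([0, 4], 137), ([1, 43], 43), ([3, 57], 57), ([5, 59], 59), ([0, 4,
  7], 0), ([9], 73), ([4, 7, 11], 4), ([13, 75], 75), ([15], 77), ([17, 81], 81), ([19], 83),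
  ([21], 91), ([23, 97], 97), ([25], 99), ([27], 105), ([29], 109), ([31], 111), ([33], 113),
  ([35], 115), ([39], 117), ([43], 121), ([45], 119), ([53], 123), ([57], 127), ([59], 131),
  ([61], 125), ([67], 129), ([71], 135), ([75], 139), ([81], 141), ([97], 143)], mkL [([2], 2),
  ([6], 6), ([4, 8], 8), ([0, 4, 10], 10), ([37], 37), ([41], 41), ([43, 47], 47), ([49], 49),
  ([51], 51), ([55], 55), ([57, 63], 63), ([65], 65), ([59, 69], 69), ([73], 73), ([77], 77),
  ([79], 79), ([83], 83), ([75, 85], 85), ([81, 87], 87), ([89], 89), ([91], 91), ([93], 93),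
  ([95], 95), ([99], 99), ([97, 101], 101), ([103], 103), ([105], 105), ([107], 107), ([109],
  109), ([111], 111), ([113], 113), ([115], 115), ([117], 117), ([119], 119), ([121], 121),
  ([123], 123), ([125], 125), ([127], 127), ([129], 129), ([131], 131), ([133], 133), ([135],
  135), ([137], 137), ([139], 139), ([141], 141), ([143], 143)])

theorem rkE6b_chk : rankChk chevE6 rkE6b.1 rkE6b.2.1 rkE6b.2.2 = true := by
  decide +kernel

/-- A rank certificate. -/
def rkE6c : List ℕ × List (ℕ × ℕ) × List (ℕ × ℕ) :=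
  ([55, 65, 67], mkL [([0, 6], 111), ([6], 131), ([4, 6], 135), ([1, 21], 21), ([3, 27], 27), ([5,
  29], 29), ([7, 59], 59), ([0, 13, 33], 0), ([11, 31], 31), ([4, 9, 13], 4), ([15, 73], 73),
  ([17], 79), ([19], 87), ([21, 45], 83), ([23], 95), ([25], 101), ([27, 61], 99), ([29], 107),
  ([31], 109), ([0, 4, 6, 9, 13, 33], 2), ([35, 75], 75), ([37, 77], 77), ([39], 81), ([21, 41],
  89), ([43], 119), ([21, 41, 45], 141), ([47], 91), ([49], 121), ([53], 97), ([27, 55], 103),
  ([57], 125), ([59], 129), ([27, 55, 61], 143), ([63], 105), ([65], 127), ([73], 137), ([75],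
  133), ([77], 139)], mkL [([2], 2), ([0, 8], 8), ([4, 10], 10), ([51], 51), ([29, 67], 67), ([31,
  69], 69), ([59, 71], 71), ([79], 79), ([81], 81), ([21, 41, 45, 83], 83), ([73, 85], 85), ([87],
  87), ([21, 41, 45, 89], 89), ([91], 91), ([93], 93), ([95], 95), ([97], 97), ([27, 55, 61, 99],
  99), ([101], 101), ([27, 55, 61, 103], 103), ([105], 105), ([107], 107), ([109], 109), ([111],
  111), ([75, 113], 113), ([77, 115], 115), ([21, 41, 45, 117], 117), ([119], 119), ([121], 121),
  ([27, 55, 61, 123], 123), ([125], 125), ([127], 127), ([129], 129), ([131], 131), ([133], 133),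
  ([135], 135), ([137], 137), ([139], 139), ([141], 141), ([143], 143)])

theorem rkE6c_chk : rankChk chevE6 rkE6c.1 rkE6c.2.1 rkE6c.2.2 = true := by
  decide +kernel

theorem pairwise_E6 : ([] :: [[71], [68, 66], [55, 65, 67]]).Pairwise
    fun l l' => ¬ IsConj (checkedE6.xl F l) (checkedE6.xl F l') :=
  checkedE6.pairwise_of_rank (L := [rkE6a, rkE6b, rkE6c])
    (by simp [rkE6a_chk, rkE6b_chk, rkE6c_chk]) (by decide +kernel)

end Cfsg.Lib.Chev
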