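import Cfsg.Agent.Lib.Chev.InvolChk
import Cfsg.Agent.Lib.Chev.CertE7

/-!
The classes of involutions of the Chevalley group of type E7 in characteristic two.
-/

namespace Cfsg.Lib.Chev

open Cfsg.Lie

set_option maxRecDepth 100000
set_option maxHeartbeats 4000000

variable {F : Type*} [Field F] [CharP F 2]

/-- Leaves of the tree of canonical lists. -/
def lvE7 : List (List ℕ × List ℕ × List ℕ × List ℕ) :=
  [([], [], [], []), ([125], [], [], [125]), ([125, 92], [], [], [125, 92]), ([125, 92, 63], [],
  [], [125, 92, 63]), ([125, 92, 63, 87], [], [], [125, 92, 63, 87]), ([125, 92, 87], [], [],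
  [125, 92, 87]), ([125, 92, 87, 63], [], [], [125, 92, 63, 87]), ([125, 92, 87, 66], [5, 4, 6,
  5], [], [125, 92, 63, 87]), ([125, 92, 87, 78], [0, 2, 5, 4, 3, 1, 6, 5, 4, 3, 2, 0], [], [125,
  92, 63, 87])]

/-- Reducible canonical lists. -/
def stE7 : List (List ℕ × List ℕ × List ℕ) :=
  [([125, 92, 63, 87, 66], [60, 37, 67, 61], [125, 92, 63, 87]), ([125, 92, 63, 87, 73], [17, 22,
  94, 32], [125, 92, 63, 87]), ([125, 92, 63, 87, 78], [27, 10, 101, 28], [125, 92, 63, 87]),
  ([125, 92, 87, 63, 66], [37, 60, 67, 61], [125, 92, 87, 63]), ([125, 92, 87, 63, 73], [17, 22,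
  94, 32], [125, 92, 87, 63]), ([125, 92, 87, 63, 78], [10, 27, 101, 28], [125, 92, 87, 63]),
  ([125, 92, 87, 66, 63], [37, 58, 65, 61], [125, 92, 87, 66]), ([125, 92, 87, 66, 73], [17, 22,
  94, 32], [125, 92, 87, 66]), ([125, 92, 87, 66, 78], [8, 29, 99, 30], [125, 92, 87, 66]), ([125,
  92, 87, 73], [17, 22, 94, 32], [125, 92, 87]), ([125, 92, 87, 78, 63], [10, 24, 98, 28], [125,
  92, 87, 78]), ([125, 92, 87, 78, 66], [8, 26, 96, 30], [125, 92, 87, 78]), ([125, 92, 87, 78,
  73], [17, 22, 94, 32], [125, 92, 87, 78])]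

theorem treeE7 : treeB chevE7 certE7 (lvE7.map Prod.fst) (stE7.map fun s => (s.1, s.2.1)) 9
    (List.range chevE7.rank) [] = true := by decide +kernel

theorem exists_isConj_E7 [Finite F] {t : chevE7.group F} (ht : t * t = 1) :
    ∃ l ∈ [] :: [[125], [125, 92], [125, 92, 63], [125, 92, 63, 87], [125, 92, 87]], IsConj t (checkedE7.xl F l) :=
  checkedE7.exists_isConj_xl (noG2_of_ln (by decide +kernel)) true (by decide +kernel) treeE7
    (by decide +kernel) (by decide +kernel) ht

theorem xl_sq_E7 : ∀ l ∈ [[125], [125, 92], [125, 92, 63], [125, 92, 63, 87], [125, 92, 87]],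
    checkedE7.xl F l * checkedE7.xl F l = 1 := fun l hl =>
  checkedE7.xl_mul_self (by revert l; decide +kernel)

/-- A rank certificate. -/
def rkE7a : List ℕ × List (ℕ × ℕ) × List (ℕ × ℕ) :=
  ([125], mkL [([0], 251), ([0, 1], 4), ([3], 187), ([5], 189), ([7], 191), ([9], 193), ([11],
  195), ([13], 197), ([15], 199), ([17], 201), ([19], 203), ([21], 205), ([23], 207), ([25], 209),
  ([27], 211), ([29], 213), ([31], 215), ([33], 217), ([35], 219), ([37], 221), ([39], 223),
  ([41], 225), ([43], 227), ([45], 229), ([47], 231), ([49], 233), ([51], 235), ([53], 237),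
  ([55], 239), ([57], 241), ([59], 243), ([61], 245), ([63], 247), ([65], 249)], mkL [([2], 2),
  ([4], 4), ([6], 6), ([8], 8), ([10], 10), ([12], 12), ([67], 67), ([69], 69), ([71], 71), ([73],
  73), ([75], 75), ([77], 77), ([79], 79), ([81], 81), ([83], 83), ([85], 85), ([87], 87), ([89],
  89), ([91], 91), ([93], 93), ([95], 95), ([97], 97), ([99], 99), ([101], 101), ([103], 103),
  ([105], 105), ([107], 107), ([109], 109), ([111], 111), ([113], 113), ([115], 115), ([117],
  117), ([119], 119), ([121], 121), ([123], 123), ([125], 125), ([127], 127), ([129], 129),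
  ([131], 131), ([133], 133), ([135], 135), ([137], 137), ([139], 139), ([141], 141), ([143],
  143), ([145], 145), ([147], 147), ([149], 149), ([151], 151), ([153], 153), ([155], 155),
  ([157], 157), ([159], 159), ([161], 161), ([163], 163), ([165], 165), ([167], 167), ([169],
  169), ([171], 171), ([173], 173), ([175], 175), ([177], 177), ([179], 179), ([181], 181),
  ([183], 183), ([185], 185), ([187], 187), ([189], 189), ([191], 191), ([193], 193), ([195],
  195), ([197], 197), ([199], 199), ([201], 201), ([203], 203), ([205], 205), ([207], 207),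
  ([209], 209), ([211], 211), ([213], 213), ([215], 215), ([217], 217), ([219], 219), ([221],
  221), ([223], 223), ([225], 225), ([227], 227), ([229], 229), ([231], 231), ([233], 233),
  ([235], 235), ([237], 237), ([239], 239), ([241], 241), ([243], 243), ([245], 245), ([247],
  247), ([249], 249), ([251], 251)])

theorem rkE7a_chk : rankChk chevE7 rkE7a.1 rkE7a.2.1 rkE7a.2.2 = true := by
  decide +kernel

/-- A rank certificate. -/
def rkE7b : List ℕ × List (ℕ × ℕ) × List (ℕ × ℕ) :=
  ([125, 92], mkL [([10], 185), ([0, 10], 251), ([0, 1, 10], 4), ([3, 33], 33), ([5, 45], 45),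
  ([7, 51], 51), ([9, 53], 53), ([11], 195), ([13], 197), ([15, 59], 59), ([17, 61], 61), ([19],
  203), ([21], 205), ([23, 63], 63), ([25], 209), ([27], 211), ([29], 213), ([31], 215), ([33],
  217), ([35, 65], 65), ([37], 221), ([39], 223), ([41], 225), ([43], 227), ([45], 229), ([47],
  231), ([49], 233), ([51], 235), ([53], 237), ([55], 239), ([57], 241), ([59], 243), ([61], 245),
  ([63], 247), ([65], 249), ([0, 1, 67], 2), ([69], 129), ([71], 131), ([73], 135), ([75], 137),
  ([79], 143), ([81], 145), ([87], 153), ([89], 155), ([97], 163), ([99], 165), ([107], 171),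
  ([109], 173), ([115], 177), ([117], 179), ([121], 181), ([123], 183)], mkL [([2], 2), ([4], 4),
  ([6], 6), ([8], 8), ([12], 12), ([77], 77), ([83], 83), ([85], 85), ([91], 91), ([93], 93),
  ([95], 95), ([101], 101), ([103], 103), ([105], 105), ([111], 111), ([113], 113), ([119], 119),
  ([125], 125), ([127], 127), ([129], 129), ([131], 131), ([133], 133), ([135], 135), ([137],
  137), ([139], 139), ([141], 141), ([143], 143), ([145], 145), ([147], 147), ([149], 149),
  ([151], 151), ([153], 153), ([155], 155), ([157], 157), ([159], 159), ([161], 161), ([163],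
  163), ([165], 165), ([167], 167), ([169], 169), ([171], 171), ([173], 173), ([175], 175),
  ([177], 177), ([179], 179), ([181], 181), ([183], 183), ([185], 185), ([33, 187], 187), ([45,
  189], 189), ([51, 191], 191), ([53, 193], 193), ([195], 195), ([197], 197), ([59, 199], 199),
  ([61, 201], 201), ([203], 203), ([205], 205), ([63, 207], 207), ([209], 209), ([211], 211),
  ([213], 213), ([215], 215), ([217], 217), ([65, 219], 219), ([221], 221), ([223], 223), ([225],
  225), ([227], 227), ([229], 229), ([231], 231), ([233], 233), ([235], 235), ([237], 237),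
  ([239], 239), ([241], 241), ([243], 243), ([245], 245), ([247], 247), ([249], 249), ([251],
  251)])

theorem rkE7b_chk : rankChk chevE7 rkE7b.1 rkE7b.2.1 rkE7b.2.2 = true := by
  decide +kernel

/-- A rank certificate. -/
def rkE7c : List ℕ × List (ℕ × ℕ) × List (ℕ × ℕ) :=
  ([125, 92, 63], mkL [([0], 185), ([0, 10], 127), ([0, 1, 10, 125], 4), ([3, 33], 33), ([5, 45],
  45), ([7, 51], 51), ([9, 53], 53), ([11, 13], 13), ([13], 197), ([15, 59], 59), ([17, 61], 61),
  ([19, 21], 21), ([21], 205), ([23, 63], 63), ([25, 27], 27), ([27], 211), ([29, 31], 31), ([31],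
  215), ([33], 217), ([35, 65], 65), ([37, 39], 39), ([39], 223), ([41, 43], 43), ([43], 227),
  ([45], 229), ([47, 49], 49), ([49], 233), ([51], 235), ([53], 237), ([55, 57], 57), ([57], 241),
  ([59], 243), ([61], 245), ([63], 247), ([65], 249), ([0, 1, 67], 2), ([69, 71], 71), ([71],
  131), ([73, 75], 75), ([75], 137), ([79, 81], 81), ([81], 145), ([87, 89], 89), ([89], 155),
  ([97, 99], 99), ([99], 165), ([107, 109], 109), ([109], 173), ([115, 117], 117), ([117], 179),
  ([121, 123], 123), ([123], 183), ([0, 10, 125], 12)], mkL [([2], 2), ([4], 4), ([6], 6), ([8],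
  8), ([12], 12), ([77], 77), ([83], 83), ([85], 85), ([91], 91), ([93], 93), ([95], 95), ([101],
  101), ([103], 103), ([105], 105), ([111], 111), ([113], 113), ([119], 119), ([127], 127), ([71,
  129], 129), ([131], 131), ([133], 133), ([75, 135], 135), ([137], 137), ([139], 139), ([141],
  141), ([81, 143], 143), ([145], 145), ([147], 147), ([149], 149), ([151], 151), ([89, 153],
  153), ([155], 155), ([157], 157), ([159], 159), ([161], 161), ([99, 163], 163), ([165], 165),
  ([167], 167), ([169], 169), ([109, 171], 171), ([173], 173), ([175], 175), ([117, 177], 177),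
  ([179], 179), ([123, 181], 181), ([183], 183), ([185], 185), ([33, 187], 187), ([45, 189], 189),
  ([51, 191], 191), ([53, 193], 193), ([13, 195], 195), ([197], 197), ([59, 199], 199), ([61,
  201], 201), ([21, 203], 203), ([205], 205), ([63, 207], 207), ([27, 209], 209), ([211], 211),
  ([31, 213], 213), ([215], 215), ([217], 217), ([65, 219], 219), ([39, 221], 221), ([223], 223),
  ([43, 225], 225), ([227], 227), ([229], 229), ([49, 231], 231), ([233], 233), ([235], 235),
  ([237], 237), ([57, 239], 239), ([241], 241), ([243], 243), ([245], 245), ([247], 247), ([249],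
  249), ([251], 251)])

theorem rkE7c_chk : rankChk chevE7 rkE7c.1 rkE7c.2.1 rkE7c.2.2 = true := by
  decide +kernel

/-- A rank certificate. -/
def rkE7d : List ℕ × List (ℕ × ℕ) × List (ℕ × ℕ) :=
  ([125, 92, 63, 87], mkL [([6], 175), ([0, 6], 185), ([0, 10], 127), ([0, 1, 67, 77], 4), ([3,
  23], 23), ([5, 35], 35), ([7, 51], 51), ([9, 53], 53), ([11, 13], 13), ([47, 49], 49), ([15,
  59], 59), ([17, 61], 61), ([19, 21], 21), ([55, 57], 57), ([33, 63], 63), ([25, 27], 27), ([27],
  211), ([29, 31], 31), ([31], 215), ([23, 33], 207), ([45, 65], 65), ([37, 39], 39), ([39], 223),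
  ([41, 43], 43), ([43], 227), ([35, 45], 219), ([13, 47], 197), ([49], 233), ([51], 235), ([53],
  237), ([21, 55], 205), ([57], 241), ([59], 243), ([61], 245), ([63], 247), ([65], 249), ([0, 1,
  6, 10, 77, 125], 2), ([69, 71], 71), ([115, 117], 117), ([73, 75], 75), ([121, 123], 123), ([10,
  67, 77, 125], 8), ([79, 81], 81), ([81], 145), ([83], 139), ([85], 141), ([87, 89], 89), ([89],
  155), ([91], 149), ([93], 151), ([97, 99], 99), ([99], 165), ([101], 159), ([103], 161), ([107,
  109], 109), ([109], 173), ([111], 167), ([113], 169), ([71, 115], 131), ([117], 179), ([75,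
  121], 137), ([123], 183), ([0, 10, 125], 12)], mkL [([2], 2), ([4], 4), ([8], 8), ([12], 12),
  ([95], 95), ([105], 105), ([119], 119), ([127], 127), ([71, 115, 117, 129], 129), ([117, 131],
  131), ([133], 133), ([75, 121, 123, 135], 135), ([123, 137], 137), ([139], 139), ([141], 141),
  ([81, 143], 143), ([145], 145), ([147], 147), ([149], 149), ([151], 151), ([89, 153], 153),
  ([155], 155), ([157], 157), ([159], 159), ([161], 161), ([99, 163], 163), ([165], 165), ([167],
  167), ([169], 169), ([109, 171], 171), ([173], 173), ([175], 175), ([117, 177], 177), ([179],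
  179), ([123, 181], 181), ([183], 183), ([185], 185), ([23, 33, 63, 187], 187), ([35, 45, 65,
  189], 189), ([51, 191], 191), ([53, 193], 193), ([13, 47, 49, 195], 195), ([49, 197], 197),
  ([59, 199], 199), ([61, 201], 201), ([21, 55, 57, 203], 203), ([57, 205], 205), ([63, 207],
  207), ([27, 209], 209), ([211], 211), ([31, 213], 213), ([215], 215), ([63, 217], 217), ([65,
  219], 219), ([39, 221], 221), ([223], 223), ([43, 225], 225), ([227], 227), ([65, 229], 229),
  ([49, 231], 231), ([233], 233), ([235], 235), ([237], 237), ([57, 239], 239), ([241], 241),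
  ([243], 243), ([245], 245), ([247], 247), ([249], 249), ([251], 251)])

theorem rkE7d_chk : rankChk chevE7 rkE7d.1 rkE7d.2.1 rkE7d.2.2 = true := by
  decide +kernel

/-- A rank certificate. -/
def rkE7e : List ℕ × List (ℕ × ℕ) × List (ℕ × ℕ) :=
  ([125, 92, 87], mkL [([6], 175), ([6, 10], 185), ([0, 10], 251), ([0, 1, 67, 77], 4), ([3, 23],
  23), ([5, 35], 35), ([7, 51], 51), ([9, 53], 53), ([11, 47], 47), ([13, 49], 49), ([15, 59],
  59), ([17, 61], 61), ([19, 55], 55), ([21, 57], 57), ([33, 63], 63), ([25], 209), ([27], 211),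
  ([29], 213), ([31], 215), ([23, 33], 207), ([45, 65], 65), ([37], 221), ([39], 223), ([41],
  225), ([43], 227), ([35, 45], 219), ([47], 231), ([49], 233), ([51], 235), ([53], 237), ([55],
  239), ([57], 241), ([59], 243), ([61], 245), ([63], 247), ([65], 249), ([0, 1, 6, 10, 77], 2),
  ([69, 115], 115), ([71, 117], 117), ([73, 121], 121), ([75, 123], 123), ([10, 67, 77], 8),
  ([79], 143), ([81], 145), ([83], 139), ([85], 141), ([87], 153), ([89], 155), ([91], 149),
  ([93], 151), ([97], 163), ([99], 165), ([101], 159), ([103], 161), ([107], 171), ([109], 173),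
  ([111], 167), ([113], 169), ([115], 177), ([117], 179), ([121], 181), ([123], 183)], mkL [([2],
  2), ([4], 4), ([8], 8), ([12], 12), ([95], 95), ([105], 105), ([119], 119), ([125], 125),
  ([127], 127), ([115, 129], 129), ([117, 131], 131), ([133], 133), ([121, 135], 135), ([123,
  137], 137), ([139], 139), ([141], 141), ([143], 143), ([145], 145), ([147], 147), ([149], 149),
  ([151], 151), ([153], 153), ([155], 155), ([157], 157), ([159], 159), ([161], 161), ([163],
  163), ([165], 165), ([167], 167), ([169], 169), ([171], 171), ([173], 173), ([175], 175),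
  ([177], 177), ([179], 179), ([181], 181), ([183], 183), ([185], 185), ([23, 33, 63, 187], 187),
  ([35, 45, 65, 189], 189), ([51, 191], 191), ([53, 193], 193), ([47, 195], 195), ([49, 197],
  197), ([59, 199], 199), ([61, 201], 201), ([55, 203], 203), ([57, 205], 205), ([63, 207], 207),
  ([209], 209), ([211], 211), ([213], 213), ([215], 215), ([63, 217], 217), ([65, 219], 219),
  ([221], 221), ([223], 223), ([225], 225), ([227], 227), ([65, 229], 229), ([231], 231), ([233],
  233), ([235], 235), ([237], 237), ([239], 239), ([241], 241), ([243], 243), ([245], 245),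
  ([247], 247), ([249], 249), ([251], 251)])

theorem rkE7e_chk : rankChk chevE7 rkE7e.1 rkE7e.2.1 rkE7e.2.2 = true := by
  decide +kernel

theorem pairwise_E7 : ([] :: [[125], [125, 92], [125, 92, 63], [125, 92, 63, 87], [125, 92, 87]]).Pairwise
    fun l l' => ¬ IsConj (checkedE7.xl F l) (checkedE7.xl F l') :=
  checkedE7.pairwise_of_rank (L := [rkE7a, rkE7b, rkE7c, rkE7d, rkE7e])
    (by simp [rkE7a_chk, rkE7b_chk, rkE7c_chk, rkE7d_chk, rkE7e_chk]) (by decide +kernel)

end Cfsg.Lib.Chev
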