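import Cfsg.Agent.Lib.Chev.InvolChk
import Cfsg.Agent.Lib.Chev.CertE8

/-!
The classes of involutions of the Chevalley group of type E8 in characteristic two.
-/

namespace Cfsg.Lib.Chev

open Cfsg.Lie

set_option maxRecDepth 100000
set_option maxHeartbeats 4000000

variable {F : Type*} [Field F] [CharP F 2]

/-- Leaves of the tree of canonical lists. -/
def lvE8 : List (List ℕ × List ℕ × List ℕ × List ℕ) :=
  [([], [], [], []), ([239], [], [], [239]), ([239, 226], [1, 3, 4, 5, 6, 7], [], [232, 233]),
  ([239, 226, 159], [5, 4, 3, 1, 2, 3, 4, 5, 6, 7, 4, 3, 2, 0], [], [228, 222, 218]), ([239, 226,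
  159, 152], [7, 6, 5, 4, 3, 1, 2, 3, 4, 5, 6, 7, 6, 5, 4, 3, 2, 0, 4, 5], [], [226, 220, 213,
  216])]

/-- Reducible canonical lists. -/
def stE8 : List (List ℕ × List ℕ × List ℕ) :=
  [([239, 226, 159, 121], [12, 79, 122, 119], [239, 226, 159]), ([239, 226, 159, 152, 121], [12,
  79, 122, 119], [239, 226, 159, 152]), ([239, 226, 159, 152, 126], [10, 84, 129, 114], [239, 226,
  159, 152]), ([239, 226, 159, 152, 135], [58, 65, 163, 77], [239, 226, 159, 152]), ([239, 226,
  159, 152, 141], [36, 43, 173, 71], [239, 226, 159, 152])]

theorem treeE8 : treeB chevE8 certE8 (lvE8.map Prod.fst) (stE8.map fun s => (s.1, s.2.1)) 9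
    (List.range chevE8.rank) [] = true := by decide +kernel

theorem exists_isConj_E8 [Finite F] {t : chevE8.group F} (ht : t * t = 1) :
    ∃ l ∈ [] :: [[239], [232, 233], [228, 222, 218], [226, 220, 213, 216]], IsConj t (checkedE8.xl F l) :=
  checkedE8.exists_isConj_xl (noG2_of_ln (by decide +kernel)) true (by decide +kernel) treeE8
    (by decide +kernel) (by decide +kernel) ht

theorem xl_sq_E8 : ∀ l ∈ [[239], [232, 233], [228, 222, 218], [226, 220, 213, 216]],
    checkedE8.xl F l * checkedE8.xl F l = 1 := fun l hl =>
  checkedE8.xl_mul_self (by revert l; decide +kernel)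

/-- A rank certificate. -/
def rkE8a : List ℕ × List (ℕ × ℕ) × List (ℕ × ℕ) :=
  ([239], mkL [([14], 479), ([1, 14], 2), ([3], 241), ([5], 245), ([7], 251), ([9], 259), ([11],
  269), ([13], 281), ([15], 293), ([17], 303), ([19], 311), ([21], 317), ([23], 321), ([25], 323),
  ([29], 337), ([31], 347), ([33], 355), ([35], 361), ([37], 365), ([39], 367), ([43], 375),
  ([45], 381), ([47], 385), ([49], 387), ([53], 393), ([55], 397), ([57], 399), ([61], 403),
  ([63], 405), ([67], 407), ([73], 413), ([75], 417), ([77], 419), ([81], 423), ([83], 425),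
  ([87], 427), ([93], 431), ([95], 433), ([99], 435), ([105], 437), ([113], 441), ([115], 443),
  ([119], 445), ([125], 447), ([133], 449), ([143], 451), ([157], 455), ([159], 457), ([163],
  459), ([169], 461), ([177], 463), ([187], 465), ([199], 467), ([211], 469), ([221], 471),
  ([229], 473), ([235], 475), ([239], 477)], mkL [([0], 0), ([2], 2), ([4], 4), ([6], 6), ([8],
  8), ([10], 10), ([12], 12), ([27], 27), ([41], 41), ([51], 51), ([59], 59), ([65], 65), ([69],
  69), ([71], 71), ([79], 79), ([85], 85), ([89], 89), ([91], 91), ([97], 97), ([101], 101),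
  ([103], 103), ([107], 107), ([109], 109), ([111], 111), ([117], 117), ([121], 121), ([123],
  123), ([127], 127), ([129], 129), ([131], 131), ([135], 135), ([137], 137), ([139], 139),
  ([141], 141), ([145], 145), ([147], 147), ([149], 149), ([151], 151), ([153], 153), ([155],
  155), ([161], 161), ([165], 165), ([167], 167), ([171], 171), ([173], 173), ([175], 175),
  ([179], 179), ([181], 181), ([183], 183), ([185], 185), ([189], 189), ([191], 191), ([193],
  193), ([195], 195), ([197], 197), ([201], 201), ([203], 203), ([205], 205), ([207], 207),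
  ([209], 209), ([213], 213), ([215], 215), ([217], 217), ([219], 219), ([223], 223), ([225],
  225), ([227], 227), ([231], 231), ([233], 233), ([237], 237), ([241], 241), ([243], 243),
  ([245], 245), ([247], 247), ([249], 249), ([251], 251), ([253], 253), ([255], 255), ([257],
  257), ([259], 259), ([261], 261), ([263], 263), ([265], 265), ([267], 267), ([269], 269),
  ([271], 271), ([273], 273), ([275], 275), ([277], 277), ([279], 279), ([281], 281), ([283],
  283), ([285], 285), ([287], 287), ([289], 289), ([291], 291), ([293], 293), ([295], 295),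
  ([297], 297), ([299], 299), ([301], 301), ([303], 303), ([305], 305), ([307], 307), ([309],
  309), ([311], 311), ([313], 313), ([315], 315), ([317], 317), ([319], 319), ([321], 321),
  ([323], 323), ([325], 325), ([327], 327), ([329], 329), ([331], 331), ([333], 333), ([335],
  335), ([337], 337), ([339], 339), ([341], 341), ([343], 343), ([345], 345), ([347], 347),
  ([349], 349), ([351], 351), ([353], 353), ([355], 355), ([357], 357), ([359], 359), ([361],
  361), ([363], 363), ([365], 365), ([367], 367), ([369], 369), ([371], 371), ([373], 373),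
  ([375], 375), ([377], 377), ([379], 379), ([381], 381), ([383], 383), ([385], 385), ([387],
  387), ([389], 389), ([391], 391), ([393], 393), ([395], 395), ([397], 397), ([399], 399),
  ([401], 401), ([403], 403), ([405], 405), ([407], 407), ([409], 409), ([411], 411), ([413],
  413), ([415], 415), ([417], 417), ([419], 419), ([421], 421), ([423], 423), ([425], 425),
  ([427], 427), ([429], 429), ([431], 431), ([433], 433), ([435], 435), ([437], 437), ([439],
  439), ([441], 441), ([443], 443), ([445], 445), ([447], 447), ([449], 449), ([451], 451),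
  ([453], 453), ([455], 455), ([457], 457), ([459], 459), ([461], 461), ([463], 463), ([465],
  465), ([467], 467), ([469], 469), ([471], 471), ([473], 473), ([475], 475), ([477], 477),
  ([479], 479)])

theorem rkE8a_chk : rankChk chevE8 rkE8a.1 rkE8a.2.1 rkE8a.2.2 = true := by
  decide +kernel

/-- A rank certificate. -/
def rkE8b : List ℕ × List (ℕ × ℕ) × List (ℕ × ℕ) :=
  ([232, 233], mkL [([0], 467), ([0, 2], 465), ([1, 187], 187), ([3, 189], 189), ([5, 191], 191),
  ([7, 193], 193), ([9, 195], 195), ([11, 197], 197), ([2, 13, 15], 2), ([0, 2, 15], 6), ([17,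
  271], 271), ([19, 273], 273), ([21, 275], 275), ([23, 277], 277), ([25, 279], 279), ([27, 281],
  281), ([29], 325), ([31], 327), ([33], 329), ([35], 331), ([37], 333), ([39], 335), ([41], 337),
  ([43], 339), ([45], 341), ([47], 343), ([49], 345), ([51], 347), ([53], 349), ([55], 351),
  ([57], 353), ([59], 355), ([61], 357), ([63], 359), ([65], 361), ([67], 363), ([69], 365),
  ([71], 367), ([73], 369), ([75], 371), ([77], 373), ([79], 375), ([81], 377), ([83], 379),
  ([85], 381), ([87], 383), ([89], 385), ([91], 387), ([93], 389), ([95], 391), ([97], 393),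
  ([99], 395), ([101], 397), ([103], 399), ([105], 401), ([107], 403), ([109], 405), ([111], 407),
  ([113], 409), ([115], 411), ([117], 413), ([119], 415), ([121], 417), ([123], 419), ([125],
  421), ([127], 423), ([129], 425), ([131], 427), ([133], 429), ([135], 431), ([137], 433),
  ([139], 435), ([141], 437), ([143], 439), ([145], 441), ([147], 443), ([149], 445), ([151],
  447), ([153], 449), ([155], 451), ([187], 453), ([189], 455), ([191], 457), ([193], 459),
  ([195], 461), ([197], 463), ([271], 469), ([273], 471), ([275], 473), ([277], 475), ([279],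
  477), ([281], 479)], mkL [([2, 4], 4), ([6], 6), ([8], 8), ([10], 10), ([12], 12), ([14], 14),
  ([157], 157), ([159], 159), ([161], 161), ([163], 163), ([165], 165), ([167], 167), ([169],
  169), ([171], 171), ([173], 173), ([175], 175), ([177], 177), ([179], 179), ([181], 181),
  ([183], 183), ([185], 185), ([187, 199], 199), ([189, 201], 201), ([191, 203], 203), ([193,
  205], 205), ([195, 207], 207), ([197, 209], 209), ([211], 211), ([213], 213), ([215], 215),
  ([217], 217), ([219], 219), ([221], 221), ([223], 223), ([225], 225), ([227], 227), ([229],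
  229), ([231], 231), ([233], 233), ([235], 235), ([237], 237), ([239], 239), ([241], 241),
  ([243], 243), ([245], 245), ([247], 247), ([249], 249), ([251], 251), ([253], 253), ([255],
  255), ([257], 257), ([259], 259), ([261], 261), ([263], 263), ([265], 265), ([267], 267),
  ([269], 269), ([271, 283], 283), ([273, 285], 285), ([275, 287], 287), ([277, 289], 289), ([279,
  291], 291), ([281, 293], 293), ([295], 295), ([297], 297), ([299], 299), ([301], 301), ([303],
  303), ([305], 305), ([307], 307), ([309], 309), ([311], 311), ([313], 313), ([315], 315),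
  ([317], 317), ([319], 319), ([321], 321), ([323], 323), ([325], 325), ([327], 327), ([329],
  329), ([331], 331), ([333], 333), ([335], 335), ([337], 337), ([339], 339), ([341], 341),
  ([343], 343), ([345], 345), ([347], 347), ([349], 349), ([351], 351), ([353], 353), ([355],
  355), ([357], 357), ([359], 359), ([361], 361), ([363], 363), ([365], 365), ([367], 367),
  ([369], 369), ([371], 371), ([373], 373), ([375], 375), ([377], 377), ([379], 379), ([381],
  381), ([383], 383), ([385], 385), ([387], 387), ([389], 389), ([391], 391), ([393], 393),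
  ([395], 395), ([397], 397), ([399], 399), ([401], 401), ([403], 403), ([405], 405), ([407],
  407), ([409], 409), ([411], 411), ([413], 413), ([415], 415), ([417], 417), ([419], 419),
  ([421], 421), ([423], 423), ([425], 425), ([427], 427), ([429], 429), ([431], 431), ([433],
  433), ([435], 435), ([437], 437), ([439], 439), ([441], 441), ([443], 443), ([445], 445),
  ([447], 447), ([449], 449), ([451], 451), ([453], 453), ([455], 455), ([457], 457), ([459],
  459), ([461], 461), ([463], 463), ([465], 465), ([467], 467), ([469], 469), ([471], 471),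
  ([473], 473), ([475], 475), ([477], 477), ([479], 479)])

theorem rkE8b_chk : rankChk chevE8 rkE8b.1 rkE8b.2.1 rkE8b.2.2 = true := by
  decide +kernel

/-- A rank certificate. -/
def rkE8c : List ℕ × List (ℕ × ℕ) × List (ℕ × ℕ) :=
  ([228, 222, 218], mkL [([0, 12], 445), ([0, 4, 12], 437), ([12], 457), ([1, 105], 105), ([3,
  107], 107), ([5, 109], 109), ([7, 111], 111), ([9, 131], 131), ([11, 139], 139), ([13, 141],
  141), ([15, 149], 149), ([17, 151], 151), ([19, 153], 153), ([21, 155], 155), ([4, 35, 43], 4),
  ([25], 243), ([27], 245), ([29, 185], 185), ([31, 207], 207), ([33, 209], 209), ([0, 23, 35],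
  0), ([37, 247], 247), ([39], 249), ([41], 251), ([4, 12, 23, 35, 43], 14), ([45, 253], 253),
  ([47, 255], 255), ([49], 257), ([51], 259), ([53, 263], 263), ([55, 265], 265), ([57], 267),
  ([59], 269), ([61, 277], 277), ([63], 279), ([65], 281), ([67], 335), ([69], 337), ([73, 287],
  287), ([75, 289], 289), ([77], 291), ([79], 293), ([81, 299], 299), ([83], 301), ([85], 303),
  ([87], 345), ([89], 347), ([93, 307], 307), ([95], 309), ([97], 311), ([99], 353), ([101], 355),
  ([105, 159], 319), ([107, 161], 321), ([109], 323), ([111], 367), ([113, 313], 313), ([115],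
  315), ([117], 317), ([105, 119], 359), ([107, 121], 361), ([125], 379), ([127], 381), ([131],
  387), ([133], 391), ([135], 393), ([139], 399), ([141], 405), ([143], 411), ([145], 413),
  ([149], 419), ([151], 425), ([153], 433), ([155], 443), ([157, 357], 357), ([105, 119, 159],
  477), ([107, 121, 161], 479), ([163], 363), ([165], 365), ([169], 383), ([171], 385), ([177],
  395), ([179], 397), ([185], 407), ([187], 401), ([189], 403), ([199], 415), ([201], 417),
  ([207], 427), ([209], 435), ([211], 421), ([213], 423), ([221], 429), ([223], 431), ([229],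
  439), ([231], 441), ([235], 453), ([237], 455), ([247], 459), ([253], 447), ([255], 461),
  ([263], 449), ([265], 463), ([277], 465), ([287], 451), ([289], 467), ([299], 469), ([307],
  471), ([313], 473), ([357], 475)], mkL [([2], 2), ([6], 6), ([4, 8], 8), ([0, 10], 10), ([14],
  14), ([71], 71), ([91], 91), ([103], 103), ([109, 123], 123), ([129], 129), ([137], 137),
  ([147], 147), ([111, 167], 167), ([131, 173], 173), ([175], 175), ([139, 181], 181), ([183],
  183), ([141, 191], 191), ([185, 193], 193), ([195], 195), ([197], 197), ([149, 203], 203),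
  ([205], 205), ([151, 215], 215), ([207, 217], 217), ([219], 219), ([153, 225], 225), ([209,
  227], 227), ([155, 233], 233), ([239], 239), ([241], 241), ([243], 243), ([245], 245), ([249],
  249), ([251], 251), ([257], 257), ([259], 259), ([261], 261), ([267], 267), ([269], 269), ([253,
  271], 271), ([263, 273], 273), ([275], 275), ([279], 279), ([281], 281), ([283], 283), ([285],
  285), ([291], 291), ([293], 293), ([287, 295], 295), ([297], 297), ([301], 301), ([303], 303),
  ([305], 305), ([309], 309), ([311], 311), ([315], 315), ([317], 317), ([105, 119, 159, 319],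
  319), ([107, 121, 161, 321], 321), ([323], 323), ([247, 325], 325), ([255, 327], 327), ([265,
  329], 329), ([277, 331], 331), ([333], 333), ([335], 335), ([337], 337), ([289, 339], 339),
  ([299, 341], 341), ([343], 343), ([345], 345), ([347], 347), ([307, 349], 349), ([351], 351),
  ([353], 353), ([355], 355), ([105, 119, 159, 359], 359), ([107, 121, 161, 361], 361), ([363],
  363), ([365], 365), ([367], 367), ([313, 369], 369), ([357, 371], 371), ([105, 119, 159, 373],
  373), ([107, 121, 161, 375], 375), ([377], 377), ([379], 379), ([381], 381), ([383], 383),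
  ([385], 385), ([387], 387), ([389], 389), ([391], 391), ([393], 393), ([395], 395), ([397],
  397), ([399], 399), ([401], 401), ([403], 403), ([405], 405), ([407], 407), ([409], 409),
  ([411], 411), ([413], 413), ([415], 415), ([417], 417), ([419], 419), ([421], 421), ([423],
  423), ([425], 425), ([427], 427), ([429], 429), ([431], 431), ([433], 433), ([435], 435),
  ([437], 437), ([439], 439), ([441], 441), ([443], 443), ([445], 445), ([447], 447), ([449],
  449), ([451], 451), ([453], 453), ([455], 455), ([457], 457), ([459], 459), ([461], 461),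
  ([463], 463), ([465], 465), ([467], 467), ([469], 469), ([471], 471), ([473], 473), ([475],
  475), ([477], 477), ([479], 479)])

theorem rkE8c_chk : rankChk chevE8 rkE8c.1 rkE8c.2.1 rkE8c.2.2 = true := by
  decide +kernel

/-- A rank certificate. -/
def rkE8d : List ℕ × List (ℕ × ℕ) × List (ℕ × ℕ) :=
  ([226, 220, 213, 216], mkL [([2, 4, 6], 441), ([2], 427), ([2, 6], 433), ([0, 2, 4, 6], 453),
  ([1, 87], 87), ([3, 89], 89), ([5, 91], 91), ([7, 103], 103), ([9, 109], 109), ([11, 111], 111),
  ([13, 131], 131), ([15, 145], 145), ([17, 147], 147), ([19, 149], 149), ([21, 151], 151), ([23,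
  153], 153), ([25, 155], 155), ([4, 39, 47], 4), ([29, 175], 175), ([31, 203], 203), ([33, 205],
  205), ([35, 207], 207), ([37, 209], 209), ([0, 27, 39], 0), ([41, 241], 241), ([43, 217], 217),
  ([45, 219], 219), ([0, 2, 6, 27, 39, 47], 8), ([49, 243], 243), ([51, 245], 245), ([6, 47, 53],
  6), ([55, 247], 247), ([57, 249], 249), ([59, 251], 251), ([61, 255], 255), ([63, 257], 257),
  ([65, 259], 259), ([67, 267], 267), ([69, 269], 269), ([71, 281], 281), ([73], 283), ([75],
  285), ([77], 295), ([79], 339), ([81], 287), ([83], 297), ([85], 341), ([87, 113], 291), ([89,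
  157], 293), ([91, 159], 303), ([93], 289), ([87, 95], 299), ([89, 97], 343), ([99], 307),
  ([101], 351), ([103, 163], 311), ([105], 313), ([107], 357), ([109, 169], 317), ([111, 177],
  321), ([87, 95, 113], 451), ([115], 301), ([91, 117], 345), ([119], 309), ([103, 121], 353),
  ([123], 373), ([125], 315), ([109, 127], 359), ([129], 379), ([131, 187], 323), ([133], 319),
  ([111, 135], 363), ([131, 137], 383), ([139], 395), ([141], 401), ([145], 409), ([147], 411),
  ([149], 415), ([151], 421), ([153], 429), ([155], 439), ([89, 97, 157], 467), ([91, 117, 159],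
  469), ([161], 347), ([103, 121, 163], 471), ([165], 355), ([167], 375), ([109, 127, 169], 473),
  ([171], 361), ([173], 381), ([175, 189], 367), ([111, 135, 177], 475), ([179], 365), ([175,
  181], 385), ([183], 397), ([185], 403), ([131, 137, 187], 477), ([175, 181, 189], 479), ([191],
  387), ([193], 399), ([195], 405), ([197], 407), ([203], 413), ([205], 417), ([207], 423),
  ([209], 431), ([217], 419), ([219], 425), ([241], 455), ([243], 443), ([245], 457), ([247],
  435), ([249], 445), ([251], 459), ([255], 437), ([257], 447), ([259], 461), ([267], 449),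
  ([269], 463), ([281], 465)], mkL [([8], 8), ([6, 10], 10), ([4, 12], 12), ([0, 14], 14), ([143],
  143), ([145, 199], 199), ([201], 201), ([147, 211], 211), ([203, 213], 213), ([215], 215),
  ([149, 221], 221), ([205, 223], 223), ([217, 225], 225), ([227], 227), ([151, 229], 229), ([207,
  231], 231), ([219, 233], 233), ([153, 235], 235), ([209, 237], 237), ([155, 239], 239), ([253],
  253), ([247, 261], 261), ([255, 263], 263), ([265], 265), ([243, 271], 271), ([249, 273], 273),
  ([257, 275], 275), ([267, 277], 277), ([279], 279), ([283], 283), ([285], 285), ([287], 287),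
  ([289], 289), ([87, 95, 113, 291], 291), ([89, 97, 157, 293], 293), ([295], 295), ([297], 297),
  ([87, 95, 113, 299], 299), ([301], 301), ([91, 117, 159, 303], 303), ([87, 95, 113, 305], 305),
  ([307], 307), ([309], 309), ([103, 121, 163, 311], 311), ([313], 313), ([315], 315), ([109, 127,
  169, 317], 317), ([319], 319), ([111, 135, 177, 321], 321), ([131, 137, 187, 323], 323), ([241,
  325], 325), ([245, 327], 327), ([251, 329], 329), ([259, 331], 331), ([269, 333], 333), ([281,
  335], 335), ([337], 337), ([339], 339), ([341], 341), ([89, 97, 157, 343], 343), ([91, 117, 159,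
  345], 345), ([347], 347), ([89, 97, 157, 349], 349), ([351], 351), ([103, 121, 163, 353], 353),
  ([355], 355), ([357], 357), ([109, 127, 169, 359], 359), ([361], 361), ([111, 135, 177, 363],
  363), ([365], 365), ([175, 181, 189, 367], 367), ([91, 117, 159, 369], 369), ([103, 121, 163,
  371], 371), ([373], 373), ([375], 375), ([109, 127, 169, 377], 377), ([379], 379), ([381], 381),
  ([131, 137, 187, 383], 383), ([175, 181, 189, 385], 385), ([387], 387), ([111, 135, 177, 389],
  389), ([131, 137, 187, 391], 391), ([175, 181, 189, 393], 393), ([395], 395), ([397], 397),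
  ([399], 399), ([401], 401), ([403], 403), ([405], 405), ([407], 407), ([409], 409), ([411],
  411), ([413], 413), ([415], 415), ([417], 417), ([419], 419), ([421], 421), ([423], 423),
  ([425], 425), ([427], 427), ([429], 429), ([431], 431), ([433], 433), ([435], 435), ([437],
  437), ([439], 439), ([441], 441), ([443], 443), ([445], 445), ([447], 447), ([449], 449),
  ([451], 451), ([453], 453), ([455], 455), ([457], 457), ([459], 459), ([461], 461), ([463],
  463), ([465], 465), ([467], 467), ([469], 469), ([471], 471), ([473], 473), ([475], 475),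
  ([477], 477), ([479], 479)])

theorem rkE8d_chk : rankChk chevE8 rkE8d.1 rkE8d.2.1 rkE8d.2.2 = true := by
  decide +kernel

theorem pairwise_E8 : ([] :: [[239], [232, 233], [228, 222, 218], [226, 220, 213, 216]]).Pairwise
    fun l l' => ¬ IsConj (checkedE8.xl F l) (checkedE8.xl F l') :=
  checkedE8.pairwise_of_rank (L := [rkE8a, rkE8b, rkE8c, rkE8d])
    (by simp [rkE8a_chk, rkE8b_chk, rkE8c_chk, rkE8d_chk]) (by decide +kernel)

end Cfsg.Lib.Chev
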