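import Cfsg.Agent.Lib.Chev.InvolCent
import Cfsg.Agent.Lib.Chev.CertF4

/-!
The classes of involutions of the Chevalley group of type F4 in characteristic two.
-/

namespace Cfsg.Lib.Chev

open Cfsg.Lie

set_option maxRecDepth 100000
set_option maxHeartbeats 4000000

variable {F : Type*} [Field F] [CharP F 2]

/-- Leaves of the tree of canonical lists. -/
def lvF4 : List (List ℕ × List ℕ × List ℕ × List ℕ) :=
  [([], [], [], []), ([44], [], [3], [44]), ([44, 29], [], [6, 0, 18], [47, 44]), ([44, 29, 28],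
  [2, 1, 0], [8, 23, 2, 10, 26, 22], [39, 45]), ([44, 29, 28, 27], [1, 2, 1, 0, 2, 1, 2], [15, 2,
  4, 23, 42, 6, 22, 17, 14, 34, 20], [39, 45]), ([44, 29, 30], [1, 2, 3], [15, 2, 4, 14, 20, 34],
  [39, 45]), ([44, 29, 30, 25], [1, 2, 1, 0, 2, 1, 2], [15, 2, 4, 23, 42, 6, 22, 17, 14, 34, 20],
  [39, 45]), ([44, 32], [1, 0], [2, 8], [39, 45]), ([44, 32, 24], [2, 1, 0], [8, 23, 2, 10, 26,
  22], [39, 45]), ([44, 32, 24, 27], [1, 2, 1, 0, 2, 1, 2], [15, 2, 4, 23, 42, 6, 22, 17, 14, 34,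
  20], [39, 45]), ([44, 32, 27], [1], [15, 2, 4, 14, 20, 34], [39, 45]), ([44, 32, 27, 24], [1, 2,
  1, 0, 2, 1, 2], [15, 2, 4, 23, 42, 6, 22, 17, 14, 34, 20], [39, 45]), ([47], [], [0], [47]),
  ([47, 37], [2, 3], [8, 2], [39, 45]), ([47, 37, 25], [2], [23, 8, 2, 10, 26, 22], [39, 45]),
  ([47, 37, 25, 33], [1, 2, 1, 0, 2, 1, 2], [15, 2, 4, 23, 42, 6, 22, 17, 14, 34, 20], [39, 45]),
  ([47, 37, 33], [1, 2, 3], [15, 2, 4, 14, 20, 34], [39, 45]), ([47, 37, 33, 25], [1, 2, 1, 0, 2,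
  1, 2], [15, 2, 4, 23, 42, 6, 22, 17, 14, 34, 20], [39, 45]), ([47, 41], [], [6, 0, 18], [47,
  44]), ([47, 41, 28], [2, 1, 0], [8, 23, 2, 10, 26, 22], [39, 45]), ([47, 41, 28, 27], [1, 2, 1,
  0, 2, 1, 2], [15, 2, 4, 23, 42, 6, 22, 17, 14, 34, 20], [39, 45]), ([47, 41, 30], [1, 2, 3],
  [15, 2, 4, 14, 20, 34], [39, 45]), ([47, 41, 30, 25], [1, 2, 1, 0, 2, 1, 2], [15, 2, 4, 23, 42,
  6, 22, 17, 14, 34, 20], [39, 45])]

/-- Reducible canonical lists. -/
def stF4 : List (List ℕ × List ℕ × List ℕ) :=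
  []

theorem treeF4 : treeB chevF4 certF4 (lvF4.map Prod.fst) (stF4.map fun s => (s.1, s.2.1)) 9
    (List.range chevF4.rank) [] = true := by decide +kernel

theorem exists_isConj_F4 [Finite F] {t : chevF4.group F} (ht : t * t = 1) :
    ∃ l ∈ [] :: [[47], [44], [47, 44], [39, 45]], IsConj t (checkedF4.xl F l) :=
  checkedF4.exists_isConj_xl (noG2_of_ln (by decide +kernel)) false (by decide +kernel) treeF4
    (by decide +kernel) (by decide +kernel) ht

theorem xl_sq_F4 : ∀ l ∈ [[47], [44], [47, 44], [39, 45]],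
    checkedF4.xl F l * checkedF4.xl F l = 1 := fun l hl =>
  checkedF4.xl_mul_self (by revert l; decide +kernel)

/-- A rank certificate. -/
def rkF4a : List ℕ × List (ℕ × ℕ) × List (ℕ × ℕ) :=
  ([47], mkL [([6], 95), ([1, 6], 0), ([3], 49), ([5], 53), ([7], 59), ([9], 63), ([11], 65),
  ([15], 73), ([17], 77), ([19], 79), ([23], 81), ([31], 85), ([33], 87), ([37], 89), ([43], 91),
  ([47], 93)], mkL [([0], 0), ([2], 2), ([4], 4), ([13], 13), ([21], 21), ([25], 25), ([27], 27),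
  ([29], 29), ([35], 35), ([39], 39), ([41], 41), ([45], 45), ([49], 49), ([51], 51), ([53], 53),
  ([55], 55), ([57], 57), ([59], 59), ([61], 61), ([63], 63), ([65], 65), ([67], 67), ([69], 69),
  ([71], 71), ([73], 73), ([75], 75), ([77], 77), ([79], 79), ([81], 81), ([83], 83), ([85], 85),
  ([87], 87), ([89], 89), ([91], 91), ([93], 93), ([95], 95)])

theorem rkF4a_chk : rankChk chevF4 rkF4a.1 rkF4a.2.1 rkF4a.2.2 = true := by
  decide +kernel

/-- A rank certificate. -/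
def rkF4b : List ℕ × List (ℕ × ℕ) × List (ℕ × ℕ) :=
  ([44], mkL [([0], 89), ([1], 37), ([3], 39), ([5], 41), ([0, 7], 2), ([9], 55), ([11], 57),
  ([13], 59), ([15], 67), ([17], 69), ([19], 71), ([21], 73), ([23], 75), ([25], 77), ([27], 79),
  ([29], 81)], mkL [([2], 2), ([4], 4), ([6], 6), ([31], 31), ([33], 33), ([35], 35), ([37], 37),
  ([39], 39), ([41], 41), ([43], 43), ([45], 45), ([47], 47), ([49], 49), ([51], 51), ([53], 53),
  ([55], 55), ([57], 57), ([59], 59), ([61], 61), ([63], 63), ([65], 65), ([67], 67), ([69], 69),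
  ([71], 71), ([73], 73), ([75], 75), ([77], 77), ([79], 79), ([81], 81), ([83], 83), ([85], 85),
  ([87], 87), ([89], 89), ([91], 91), ([93], 93), ([95], 95)])

theorem rkF4b_chk : rankChk chevF4 rkF4b.1 rkF4b.2.1 rkF4b.2.2 = true := by
  decide +kernel

/-- A rank certificate. -/
def rkF4c : List ℕ × List (ℕ × ℕ) × List (ℕ × ℕ) :=
  ([47, 44], mkL [([0], 89), ([6], 95), ([0, 1, 6], 0), ([3, 31], 39), ([5, 33], 41), ([0, 6, 7,
  13], 2), ([9, 43], 55), ([11, 47], 57), ([6, 13], 59), ([15, 21], 67), ([17, 25], 69), ([19,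
  27], 71), ([21], 73), ([23, 29], 75), ([25], 77), ([27], 79), ([29], 81), ([31], 85), ([33],
  87), ([43], 91), ([47], 93)], mkL [([2], 2), ([4], 4), ([35], 35), ([0, 37], 37), ([39], 39),
  ([41], 41), ([45], 45), ([49], 49), ([51], 51), ([53], 53), ([55], 55), ([57], 57), ([59], 59),
  ([61], 61), ([63], 63), ([65], 65), ([67], 67), ([69], 69), ([71], 71), ([73], 73), ([75], 75),
  ([77], 77), ([79], 79), ([81], 81), ([83], 83), ([85], 85), ([87], 87), ([89], 89), ([91], 91),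
  ([93], 93), ([95], 95)])

theorem rkF4c_chk : rankChk chevF4 rkF4c.1 rkF4c.2.1 rkF4c.2.2 = true := by
  decide +kernel

/-- A rank certificate. -/
def rkF4d : List ℕ × List (ℕ × ℕ) × List (ℕ × ℕ) :=
  ([39, 45], mkL [([2], 79), ([2, 4], 91), ([1, 43], 19), ([3, 45], 21), ([2, 17], 0), ([7, 27],
  27), ([9], 29), ([11], 61), ([13], 63), ([15, 41], 41), ([4, 5, 17], 6), ([19], 75), ([21], 77),
  ([23], 57), ([25], 59), ([27], 81), ([31], 67), ([33], 83), ([35], 85), ([37], 71), ([39], 73),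
  ([41], 89), ([19, 43], 93), ([21, 45], 95)], mkL [([0], 0), ([6], 6), ([29], 29), ([47], 47),
  ([49], 49), ([19, 43, 51], 51), ([21, 45, 53], 53), ([27, 55], 55), ([57], 57), ([59], 59),
  ([61], 61), ([63], 63), ([65], 65), ([67], 67), ([41, 69], 69), ([71], 71), ([73], 73), ([75],
  75), ([77], 77), ([79], 79), ([81], 81), ([83], 83), ([85], 85), ([87], 87), ([89], 89), ([91],
  91), ([93], 93), ([95], 95)])

theorem rkF4d_chk : rankChk chevF4 rkF4d.1 rkF4d.2.1 rkF4d.2.2 = true := by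
  decide +kernel

theorem not_isConj_F4 : ¬ IsConj (checkedF4.xl F [47]) (checkedF4.xl F [44]) := fun h => by
  obtain ⟨⟨g, hg⟩, e⟩ := isConj_iff.1 h
  have h1 : ∀ (r : ℕ) (hr : r < chevF4.nroots), (checkedF4.xl F [r] : GL chevF4.Idx F) =
      (checkedF4.sys F).x ⟨r, hr⟩ 1 := fun r hr => Units.ext (by
    rw [checkedF4.coe_xl, checkedF4.coe_x]; simp)
  replace e := congrArg Subtype.val e
  rw [Subgroup.coe_mul, Subgroup.coe_mul, Subgroup.coe_inv, h1 _ (by decide), h1 _ (by decide)] at e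
  obtain ⟨w, hw, e'⟩ := (checkedF4.faithful F).exists_W_of_conj (checkedF4.group_eq F ▸ hg)
    (fun s hs => checkedF4.commute_of_redT 2 (checkedF4.strongComm F) (by
      revert s; decide +kernel))
    (fun s hs => checkedF4.commute_of_redT 2 (checkedF4.strongComm F) (by
      revert s; decide +kernel)) e
  have := (RootSys.isAut_of_mem_W hw).ln ⟨47, by decide⟩
  rw [e'] at this
  revert this
  decide +kernel

theorem pairwise_F4 : ([] :: [[47], [44], [47, 44], [39, 45]]).Pairwise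
    fun l l' => ¬ IsConj (checkedF4.xl F l) (checkedF4.xl F l') := by
  have h1 := checkedF4.pairwise_of_rank (F := F) (L := [rkF4a, rkF4c, rkF4d])
    (by simp [rkF4a_chk, rkF4c_chk, rkF4d_chk]) (by decide +kernel)
  have h2 := checkedF4.pairwise_of_rank (F := F) (L := [rkF4b, rkF4c, rkF4d])
    (by simp [rkF4b_chk, rkF4c_chk, rkF4d_chk]) (by decide +kernel)
  have h3 := not_isConj_F4 (F := F)
  simp only [List.map_cons, List.map_nil, rkF4a, rkF4b, rkF4c, rkF4d, List.pairwise_cons,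
    List.mem_cons, List.not_mem_nil, forall_eq_or_imp, IsEmpty.forall_iff, implies_true, and_true,
    List.Pairwise.nil, or_false, forall_eq] at h1 h2 ⊢
  exact ⟨⟨h1.1.1, h2.1.1, h1.1.2⟩, ⟨h3, h1.2.1⟩, h2.2.1, h1.2.2⟩

end Cfsg.Lib.Chev
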