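import Cfsg.Agent.Lib.Chev.StGroup
import Cfsg.Agent.Lib.Chev.AutStd
import Cfsg.Agent.Lib.Chev.Mult
import Cfsg.Agent.Lib.Chev.WeylChk

/-!
Tools for generating a Chevalley group over a finite field by two elements.
-/

namespace Cfsg.Lib.Chev

open RootSys PreSys Cfsg.Lib.BN

section Seed

variable {F : Type*} [Field F] {G : Type*} [Group G] {K : Subgroup G}

/-- A unit other than `1` of which every square is a power. -/
def Big (a : Fˣ) : Prop := a ≠ 1 ∧ ∀ s : Fˣ, s ^ 2 ∈ Subgroup.zpowers a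

theorem Big.inv {a : Fˣ} (h : Big a) : Big a⁻¹ :=
  ⟨inv_ne_one.2 h.1, Subgroup.zpowers_inv (g := a) ▸ h.2⟩

theorem exists_big [Finite F] (h : ∃ x : F, x ≠ 0 ∧ x ≠ 1) : ∃ ξ : Fˣ, ∀ m : ℤ,
    m.natAbs = 1 ∨ m.natAbs = 2 ∧ 4 ≤ Nat.card F → Big (ξ ^ m) := by
  obtain ⟨ξ, hξ⟩ := IsCyclic.exists_generator (α := Fˣ)
  have h1 : Big (ξ ^ (1 : ℤ)) := by
    obtain ⟨x, h0, h1⟩ := h
    refine ⟨fun e => h1 ?_, fun s => by simpa using hξ _⟩
    obtain ⟨k, hk⟩ := hξ (Units.mk0 x h0)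
    rw [zpow_one] at e
    simpa [e] using congrArg Units.val hk.symm
  have h2 : 4 ≤ Nat.card F → Big (ξ ^ (2 : ℤ)) := fun h4 => ⟨fun e => by
    have := Nat.le_of_dvd two_pos (orderOf_dvd_of_pow_eq_one (x := ξ) (by exact_mod_cast e))
    rw [orderOf_eq_card_of_forall_mem_zpowers hξ, Nat.card_units] at this
    omega, fun s => by
    obtain ⟨k, rfl⟩ := hξ s
    exact ⟨k, by simp only [← zpow_natCast, ← zpow_mul, mul_comm]; rfl⟩⟩
  refine ⟨ξ, fun m hm => ?_⟩
  obtain rfl | rfl | ⟨rfl | rfl, h4⟩ : m = 1 ∨ m = -1 ∨ (m = 2 ∨ m = -2) ∧ 4 ≤ Nat.card F := by omega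
  exacts [h1, zpow_neg ξ 1 ▸ h1.inv, h2 h4, zpow_neg ξ 2 ▸ (h2 h4).inv]

variable {x : F → G} (hx : ∀ t u, x (t + u) = x t * x u)
include hx

theorem addFam_zero : x 0 = 1 := by simpa using hx 0 0

theorem addFam_neg (t : F) : x (-t) = (x t)⁻¹ :=
  eq_inv_of_mul_eq_one_left (by rw [← hx, neg_add_cancel, addFam_zero hx])

theorem mem_of_smul [Finite F] {a : Fˣ} (ha : Big a) (h : ∀ t, x t ∈ K → x (a * t) ∈ K) {u : F}
    (hu : u ≠ 0) (h' : x u ∈ K) (t : F) : x t ∈ K := by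
  have h1 : ∀ s : F, x (s ^ 2 * u) ∈ K := fun s => by
    rcases eq_or_ne s 0 with rfl | hs
    · simp [addFam_zero hx]
    obtain ⟨k, hk⟩ := (mem_powers_iff_mem_zpowers.2 (ha.2 (Units.mk0 s hs)))
    rw [show s ^ 2 = a ^ k by simpa using congrArg Units.val hk.symm]
    clear hk
    induction k with
    | zero => simpa using h'
    | succ k ih => simpa only [pow_succ', mul_assoc] using h _ ih
  by_cases h2 : (2 : F) = 0
  · obtain ⟨s, hs⟩ := FiniteField.isSquare_of_char_two (F := F)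
      (CharP.ringChar_of_prime_eq_zero Nat.prime_two (by exact_mod_cast h2)) (t / u)
    simpa [pow_two, ← hs, hu] using h1 s
  · rw [show t = ((t / u + 1) / 2) ^ 2 * u + -(((t / u - 1) / 2) ^ 2 * u) by field_simp; ring, hx,
      addFam_neg hx]
    exact mul_mem (h1 _) (inv_mem (h1 _))

theorem mem_of_seed [Finite F] {k k' : G} {a a' : Fˣ} (ha : Big a) (ha' : a' ≠ 1)
    (h1 : ∀ t, k * x t * k⁻¹ = x (a * t)) (h2 : ∀ t, k' * x t * k'⁻¹ = x (a' * t))
    (h3 : k * k' = k' * k) (hk : k ∈ K) (hk' : x 1 * k' * (x 1)⁻¹ ∈ K) (t : F) : x t ∈ K := by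
  refine mem_of_smul hx ha (fun t ht => h1 t ▸ mul_mem (mul_mem hk ht) (inv_mem hk))
    (u := (a - 1) * (1 - a')) (mul_ne_zero (sub_ne_zero.2 (mt Units.val_eq_one.1 ha.1))
      (sub_ne_zero.2 (Ne.symm (mt Units.val_eq_one.1 ha')))) ?_ t
  have := mul_mem (mul_mem (mul_mem hk hk') (inv_mem hk)) (inv_mem hk')
  rw [show k * (x 1 * k' * (x 1)⁻¹) * k⁻¹ * (x 1 * k' * (x 1)⁻¹)⁻¹ = (k * x 1 * k⁻¹) *
    ((k * k' * k⁻¹) * ((k * x 1 * k⁻¹)⁻¹ * x 1) * k'⁻¹) * (x 1)⁻¹ by group, h3,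
    mul_inv_cancel_right, h1, ← addFam_neg hx, ← addFam_neg hx, ← hx, h2, ← hx, ← hx] at this
  convert this using 2
  ring

end Seed

variable {ι Φ : Type} [Fintype ι] [DecidableEq ι] {R : RootSys ι Φ} {F : Type*} [Field F]
  {G : Type*} [Group G]

namespace RootSys

theorem ca_eq_zero_of_fixed {l : List ι} (hl : l.Nodup) {v : ι → ℤ}
    (h : l.foldr (fun i v => R.sL i v) v = v) : ∀ i ∈ l, R.ca i v = 0 := by
  have h1 : ∀ (l : List ι) (i : ι), i ∉ l → l.foldr (fun i v => R.sL i v) v i = v i := by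
    intro l i hi
    induction l with
    | nil => rfl
    | cons j l ih =>
      rw [List.mem_cons, not_or] at hi
      rw [List.foldr_cons, sL_apply, Pi.sub_apply, ih hi.2]
      simp [hi.1]
  induction l with
  | nil => simp
  | cons i l ih =>
    rw [List.nodup_cons] at hl
    have h2 := congrArg (R.sL i) h
    rw [List.foldr_cons, sL_sL] at h2
    have h3 : R.ca i v = 0 := by
      have := h1 l i hl.1
      rw [h2] at this
      simpa [sL_apply] using this
    rw [sL_apply, h3, zero_smul, sub_zero] at h2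
    simpa [h3] using ih hl.2 h2

theorem wp_of_orth {l : List ι} {r : Φ} (h : ∀ i ∈ l, R.pair (R.simple i) r = 0) :
    wp R.sref l r = r := by
  induction l with
  | nil => rfl
  | cons i l ih =>
    rw [List.forall_mem_cons] at h
    rw [wp_cons, Equiv.Perm.mul_apply, ih h.2]
    exact R.α_inj (by simp [α_sref', h.1])

theorem sref_sref_bond {i j : ι} (h1 : R.A i j = -1) (h2 : R.A j i = -1) :
    R.sref i (R.sref j (R.simple i)) = R.simple j := R.α_inj (by
  rw [α_sref', ← R.refl_simple j, pair_refl, α_refl]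
  simp only [pair_simple_simple, h1, h2, A_diag]
  module)

theorem psi_mul_wp (f : (ι → ℤ) →+ ℤ) {w : Equiv.Perm Φ} (hw : R.IsAut w) (l : List ι) :
    (fun j => f (R.α ((w * wp R.sref l) (R.simple j)))) =
      l.foldl R.stp fun j => f (R.α (w (R.simple j))) := by
  induction l generalizing w with
  | nil => simp
  | cons i l ih =>
    rw [wp_cons, ← mul_assoc, ih (hw.mul (R.isAut_sref i)), List.foldl_cons]
    congr 1
    funext j
    have := (hw.comb (k := R.sref i (R.simple j)) (r := R.simple j) (s := R.simple i) (i := 1)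
      (j := -R.A i j)).2 (by rw [α_sref', pair_simple_simple]; (module))
    rw [Equiv.Perm.mul_apply, this, map_add, map_zsmul, map_zsmul, stp]
    simp [sub_eq_add_neg]

end RootSys

namespace ChevSys

variable (C : ChevSys R F G) (K : Subgroup G)

/-- The root subgroup of `r` lies in `K`. -/
def RS (r : Φ) : Prop := ∀ t, C.x r t ∈ K

/-- The permutations of the roots induced by elements of `K`. -/
def WK : Subgroup (Equiv.Perm Φ) where
  carrier := {w | ∃ g ∈ K, ∃ c, C.Acts g w c}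
  one_mem' := ⟨1, one_mem K, _, C.acts_one⟩
  mul_mem' := fun ⟨_, h1, _, h2⟩ ⟨_, h3, _, h4⟩ => ⟨_, mul_mem h1 h3, _, h2.mul h4⟩
  inv_mem' := fun ⟨_, h1, _, h2⟩ => ⟨_, inv_mem h1, _, h2.inv⟩

variable {C K}

theorem RS.map {r : Φ} (h : C.RS K r) {w : Equiv.Perm Φ} (hw : w ∈ C.WK K) : C.RS K (w r) := by
  obtain ⟨g, h1, c, h2⟩ := hw
  intro t
  have := h2.conj r (((c r)⁻¹ : Fˣ) * t)
  rw [Units.mul_inv_cancel_left] at this
  exact this ▸ mul_mem (mul_mem h1 (h _)) (inv_mem h1)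

theorem RS.of_map {r : Φ} {w : Equiv.Perm Φ} (h : C.RS K (w r)) (hw : w ∈ C.WK K) : C.RS K r :=
  inv_apply w r ▸ h.map (inv_mem hw)

theorem RS.refl_mem {r : Φ} (h : C.RS K r) (h' : C.RS K (R.neg r)) : R.refl r ∈ C.WK K :=
  ⟨_, C.n_mem h h' 1, _, C.acts_n_one r⟩

theorem sref_mem_of_wp {l : List ι} (hl : l.Nodup) {k : ι} (hk : k ∈ l)
    (hw : wp R.sref l ∈ C.WK K) (h : ∀ i, i ≠ k → R.sref i ∈ C.WK K) : R.sref k ∈ C.WK K := by
  obtain ⟨l₁, l₂, rfl⟩ := List.append_of_mem hk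
  rw [List.nodup_middle, List.nodup_cons, List.mem_append, not_or] at hl
  rwa [wp_append, wp_cons, mul_mem_cancel_left (wp_mem fun i hi => h i (ne_of_mem_of_not_mem hi
    hl.1.1)), mul_mem_cancel_right (wp_mem fun i hi => h i (ne_of_mem_of_not_mem hi hl.1.2))] at hw

theorem RS.bond {i j : ι} (h : C.RS K (R.simple i)) (h1 : R.A i j = -1) (h2 : R.A j i = -1)
    (hi : R.sref i ∈ C.WK K) (hj : R.sref j ∈ C.WK K) : C.RS K (R.simple j) :=
  sref_sref_bond h1 h2 ▸ (h.map hj).map hi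

variable {T : ChevTab R} (hT : T.StrongComm C.x) (hR : R.NoG2)
include hT hR

theorem x_refl_mem {r s : Φ} (h1 : R.pair r s < 0) (h2 : R.pair s r = -1)
    (h3 : R.pair r s = -2 → C.RS K (R.refl s r)) {t u : F}
    (h : (C.x s u)⁻¹ * (C.x r t)⁻¹ * C.x s u * C.x r t ∈ K) :
    ∃ ε : F, ε * ε = 1 ∧ C.x (R.refl r s) (ε * (-t) ^ (-R.pair r s).toNat * u) ∈ K := by
  have n1 : s ≠ r := ne_of_pair (by omega : R.pair r s ≠ 2)
  have n2 : s ≠ R.neg r := fun e => by rw [e, pair_neg_left, pair_self] at h2; omega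
  have e : R.α (R.refl r s) = (-R.pair r s).toNat • R.α r + R.α s := by
    rw [α_refl, ← natCast_zsmul, Int.toNat_of_nonneg (by omega)]; module
  have hM := T.M_abs r s _ s _ 0 n1 n2 (by omega) e (by simp) (by simpa using hR.α_ne_sub h1)
  refine ⟨T.M r s (-R.pair r s).toNat, ?_, ?_⟩
  · rw [zero_add, Nat.choose_self, Int.natAbs_eq_iff] at hM
    rcases hM with e | e <;> simp [e]
  · simpa using hT.mem_of_terms n1 n2 (T.mem_terms_of_cr (by omega) e) h fun k hk hk' => by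
      have := hR.ge r s
      obtain e' | e' : R.pair r s = -1 ∨ R.pair r s = -2 := by omega
      · exact absurd (R.α_inj (by rw [hk.of_A2 hR e' h2, α_refl, e']; module)) hk'
      · exact (hk.of_B2 e' h2).resolve_left hk' ▸ h3 e'

theorem RS.add {r s : Φ} (hr : C.RS K r) (hs : C.RS K s) (h1 : R.pair r s = -1)
    (h2 : R.pair s r = -1) : C.RS K (R.refl r s) := fun t => by
  obtain ⟨ε, h3, h4⟩ := x_refl_mem hT hR (by omega) h2 (by omega) (t := -1) (u := t)
    (mul_mem (mul_mem (mul_mem (inv_mem (hs _)) (inv_mem (hr _))) (hs _)) (hr _))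
  obtain ⟨ε', h5, h6⟩ := x_refl_mem hT hR (by omega) h2 (by omega) (t := 1) (u := t)
    (mul_mem (mul_mem (mul_mem (inv_mem (hs _)) (inv_mem (hr _))) (hs _)) (hr _))
  rcases mul_self_eq_one_iff.1 h3 with rfl | rfl
  · simpa [h1] using h4
  · simpa [h1, C.x_neg] using h4

theorem RS.neg_of_sum (l : Multiset Φ) {r : Φ} (hr : C.RS K r)
    (hl : ∀ s ∈ l, C.RS K s ∧ R.ln s = R.ln r)
    (h : ∀ i, R.ca i (R.α r + (l.map R.α).sum) = 0) : C.RS K (R.neg r) := by
  induction hn : l.card generalizing l r with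
  | zero =>
    obtain rfl := Multiset.card_eq_zero.1 hn
    have := R.pair_self r
    simp only [Multiset.map_zero, Multiset.sum_zero, add_zero] at h
    simp [pair, cv_apply, h] at this
  | succ n ih =>
    obtain ⟨s, hs, h1⟩ : ∃ s ∈ l, R.pair r s < 0 := by
      by_contra! hc
      have h2 : R.cv r (R.α r + (l.map R.α).sum) = 0 := by simp only [cv_apply, h]; simp
      rw [map_add, map_multiset_sum, Multiset.map_map, ← pair, pair_self] at h2
      have := Multiset.sum_nonneg (s := l.map (R.cv r ∘ R.α)) (by simpa using! hc)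
      omega
    obtain ⟨l, rfl⟩ := Multiset.exists_cons_of_mem hs
    obtain ⟨h2, h3⟩ := hl s hs
    rcases eq_or_ne s (R.neg r) with rfl | h4
    · exact h2
    have h5 := pair_comm_of_ln h3
    have h6 : R.pair r s = -1 := by
      have := pair_mul_le (ne_of_pair (by omega : R.pair r s ≠ 2)) h4
      nlinarith
    have h7 := ih l (hr.add hT hR h2 h6 (h5.trans h6)) (fun k hk => by
      rw [ln_refl, h3]; exact hl k (Multiset.mem_cons_of_mem hk)) (fun i => by
      rw [← h i, α_refl, h6, Multiset.map_cons, Multiset.sum_cons]; congr 1; module)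
      (by simpa using hn)
    have h8 : R.pair s (R.neg (R.refl r s)) = -1 := by
      rw [pair_neg_right, pair_refl, pair_self, h5, h6]; rfl
    convert h2.add hT hR h7 h8 (by rwa [← pair_comm_of_ln (by rw [R.ln_neg, ln_refl])]) using 1
    exact R.α_inj (by rw [α_refl, h8, R.α_neg, R.α_neg, α_refl, h6]; module)

theorem RS.neg [Finite Φ] {l : List ι} (hl : l.Nodup) (hl' : ∀ i, i ∈ l)
    (hw : wp R.sref l ∈ C.WK K) {r : Φ} (hr : C.RS K r) : C.RS K (R.neg r) := by
  set w := wp R.sref l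
  obtain ⟨m, hm⟩ := Nat.exists_eq_succ_of_ne_zero (orderOf_pos w).ne'
  refine hr.neg_of_sum hT hR ((Finset.range m).val.map fun j => (w ^ (j + 1)) r) (fun s hs => ?_)
    fun i => ca_eq_zero_of_fixed hl ?_ i (hl' i)
  · obtain ⟨j, -, rfl⟩ := Multiset.mem_map.1 hs
    exact ⟨hr.map (pow_mem hw _), (isAut_of_mem_W (pow_mem (wp_mem_W l) _)).ln r⟩
  · have h1 : ∀ l : List ι, ∃ L : (ι → ℤ) →+ (ι → ℤ), (∀ v, L v = l.foldr (fun i v => R.sL i v) v) ∧
        ∀ s, L (R.α s) = R.α (wp R.sref l s) := fun l => by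
      induction l with
      | nil => exact ⟨.id _, fun _ => rfl, fun _ => rfl⟩
      | cons i l ih =>
        obtain ⟨L, h1, h2⟩ := ih
        exact ⟨(R.sL i).comp L, fun v => by simp [h1], fun s => by simp [h2, α_sref]⟩
    obtain ⟨L, h1, h2⟩ := h1 l
    rw [← h1, Multiset.map_map, ← Finset.sum_eq_multiset_sum, add_comm]
    have h3 := Finset.sum_range_succ' (fun j => R.α ((w ^ j) r)) m
    simp only [pow_zero, Equiv.Perm.one_apply] at h3
    simp only [Function.comp]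
    rw [← h3, map_sum]
    simp only [h2, ← Equiv.Perm.mul_apply]
    simp only [show wp R.sref l = w from rfl, ← pow_succ']
    rw [h3, Finset.sum_range_succ, ← Nat.succ_eq_add_one m, ← hm, pow_orderOf_eq_one]
    rfl

theorem RS.long {i j : ι} (hi : C.RS K (R.simple i)) (hs : C.RS K (R.sref j (R.simple i)))
    (hw : R.sref i ∈ C.WK K) (h1 : R.A i j = -2) (h2 : R.A j i = -1) (hF : (2 : F) ≠ 0) :
    C.RS K (R.simple j) := by
  have hij : i ≠ j := by rintro rfl; rw [A_diag] at h2; omega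
  have e1 : R.α (R.sref j (R.simple i)) =
      (1 : ℤ) • R.α (R.simple i) + (1 : ℤ) • R.α (R.simple j) := by
    simp [α_sref', pair_simple_simple, h2]
  generalize R.sref j (R.simple i) = s at *
  have p1 : R.pair (R.simple i) s = 0 := by
    rw [pair_of_comb e1, pair_self, pair_simple_simple, h1]; rfl
  have n1 : s ≠ R.simple i := ne_of_pair (by rw [p1]; omega)
  have n2 : s ≠ R.neg (R.simple i) := ne_neg_of_pair (by omega)
  have e2 : R.α (R.sref i (R.simple j)) = 1 • R.α (R.simple i) + R.α s := by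
    rw [α_sref', e1, pair_simple_simple, h1]; module
  have hM := T.M_abs _ _ _ (R.simple j) 1 1 n1 n2 one_pos e2 (by rw [e1]; module) fun m e => by
    have := hR.ge (R.simple i) m
    rw [pair_of_comb (i := 1) (j := -2) (r := s) (s := R.simple i) (by rw [e]; module), p1,
      pair_self] at this
    omega
  have hM' : (T.M (R.simple i) s 1 : F) ≠ 0 := by
    rcases Int.natAbs_eq (T.M (R.simple i) s 1) with e | e <;> rw [e, hM] <;> simpa using hF
  refine RS.of_map (fun t => ?_) hw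
  simpa [hM'] using hT.mem_of_terms (K := K) n1 n2 (T.mem_terms_of_cr one_pos e2) (t := -1)
    (u := (T.M (R.simple i) s 1 : F)⁻¹ * t)
    (mul_mem (mul_mem (mul_mem (inv_mem (hs _)) (inv_mem (hi _))) (hs _)) (hi _)) fun k hk hk' =>
      absurd (R.α_inj (by rw [(hk.of_orth p1).1, e2, one_smul])) hk'

theorem RS.of_two (hF : ∀ t : F, t = 0 ∨ t = 1) {r b : Φ} (hr : C.RS K r)
    (hw : R.refl r ∈ C.WK K) (h1 : R.pair r b < 0) (h2 : R.pair b r = -1)
    (h3 : R.pair r b = -2 → C.RS K (R.refl b r)) (h : C.x b 1 * C.x (R.neg b) 1 ∈ K) :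
    C.RS K b := by
  have h4 : (-1 : F) = 1 := (hF _).resolve_left (by simp)
  have h5 := mul_mem (mul_mem h (hr 1)) (inv_mem h)
  rw [mul_assoc (C.x b 1), ← (C.commute_of_not_between (ne_neg_of_pair (by
    rw [pair_neg_right]; omega)) (hR.not_between (by rw [pair_neg_right]; omega)) 1 1).eq,
    mul_inv_rev, ← mul_assoc, ← mul_assoc, mul_inv_cancel_right, ← C.x_neg, h4] at h5
  obtain ⟨ε, h6, h7⟩ := x_refl_mem hT hR h1 h2 h3 (t := 1) (u := 1) (by
    rw [← C.x_neg, ← C.x_neg, h4]; exact mul_mem h5 (hr 1))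
  refine RS.of_map (fun t => ?_) hw
  rcases hF t with rfl | rfl
  · simp
  · simpa [h4, (hF ε).resolve_left (by rintro rfl; simp at h6)] using h7

end ChevSys

/-- `G` is generated by two elements. -/
def TwoGen (G : Type*) [Group G] : Prop := ∃ a b : G, Subgroup.closure {a, b} = ⊤

theorem TwoGen.map {G' : Type*} [Group G'] (h : TwoGen G) {φ : G →* G'}
    (hφ : Function.Surjective φ) : TwoGen G' := by
  obtain ⟨a, b, h⟩ := h
  exact ⟨φ a, φ b, by rw [← Set.image_pair, ← MonoidHom.map_closure, h, Subgroup.map_top_of_surjective _ hφ]⟩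

namespace ChevSys

variable [Finite F] {C : ChevSys R F G} (htop : C.grp = ⊤) {w : Equiv.Perm Φ} (hw : w ∈ R.W)
include htop

omit [Finite F] in
theorem twoGen_of (a b : G) (h : ∀ K : Subgroup G, a ∈ K → b ∈ K → C.grp ≤ K) : TwoGen G :=
  ⟨a, b, top_le_iff.1 (htop.ge.trans (h _ (Subgroup.subset_closure (by simp))
    (Subgroup.subset_closure (by simp))))⟩

include hw

theorem twoGen_two {k : G} (hk : k ∈ C.H) {χ : Φ → Fˣ} (hχ : C.Acts k 1 χ) {a b : Φ}
    (h1 : Big (χ a)) (h2 : χ (w⁻¹ a) ≠ 1) {u : F} (hb : u = 0 ∨ χ b = 1 ∧ Big (χ (w b)) ∧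
      χ (w⁻¹ b) ≠ 1 ∧ ∀ t u, Commute (C.x a t) (C.x b u))
    (H : ∀ K, w ∈ C.WK K → C.RS K a → (u = 1 → C.RS K b) → C.grp ≤ K) (hu : u = 0 ∨ u = 1) :
    TwoGen G := by
  obtain ⟨n, hn⟩ := C.exists_nw_of_mem_W hw
  obtain ⟨c, hc⟩ := hn.exists_acts
  have a1 : ∀ s t, n * k * n⁻¹ * C.x s t * (n * k * n⁻¹)⁻¹ = C.x s (χ (w⁻¹ s) * t) := fun s t => by
    simpa using ((hc.mul hχ).mul hc.inv).conj s t
  have a2 : ∀ s t, n⁻¹ * k * n * C.x s t * (n⁻¹ * k * n)⁻¹ = C.x s (χ (w s) * t) := fun s t => by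
    simpa [mul_comm (χ _)] using ((hc.inv.mul hχ).mul hc).conj s t
  have m1 := C.conj_mem_H hn.mem_N hk
  have m2 := C.conj_mem_H (inv_mem hn.mem_N) hk
  rw [inv_inv] at m2
  have hM := C.hMul_of_finite
  refine twoGen_of htop k (C.x a 1 * (C.x b u * n)) fun K g1 g2 => ?_
  have g3 := mul_mem (mul_mem g2 g1) (inv_mem g2)
  rcases hb with rfl | ⟨h3, h4, h5, h6⟩
  · rw [C.x_zero, one_mul] at g2 g3
    have := mem_of_seed (C.x_add a) h1 h2 (hχ.conj a) (a1 a) (hM.H_comm hk m1) g1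
      (by simpa only [mul_inv_rev, mul_assoc] using g3)
    exact H K ⟨n, (mul_mem_cancel_left (this 1)).1 g2, _, hc⟩ this (by simp)
  have c1 : k * C.x b u = C.x b u * k := by simpa [h3] using hχ.conj' b u
  have g4 := mem_of_seed (C.x_add a) h1 h2 (hχ.conj a)
    (k' := C.x b u * (n * k * n⁻¹) * (C.x b u)⁻¹) (fun t => by
      rw [show ∀ y z x : G, y * z * y⁻¹ * x * (y * z * y⁻¹)⁻¹ = y * (z * (y⁻¹ * x * y) * z⁻¹) * y⁻¹
        by intros; group, mul_assoc _ (C.x a t), (h6 t u).eq, inv_mul_cancel_left, a1, ← (h6 _ u).eq,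
        mul_inv_cancel_right]) 
      (((show Commute k _ from c1).mul_right (hM.H_comm hk m1)).mul_right
        (show Commute k _ from c1).inv_right) g1 (by simpa only [mul_inv_rev, mul_assoc] using g3)
  have g5 := (mul_mem_cancel_left (g4 1)).1 g2
  rcases hu with rfl | rfl
  · exact H K ⟨n, by simpa using g5, _, hc⟩ g4 (by simp)
  have g6 := mem_of_seed (C.x_add b) h4 h5 (a2 b) (a1 b) (hM.H_comm m2 m1) (K := K) (by
    have := mul_mem (mul_mem (inv_mem g5) g1) g5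
    rwa [mul_inv_rev, mul_assoc, mul_assoc, ← mul_assoc k, c1, mul_assoc, inv_mul_cancel_left,
      ← mul_assoc] at this)
    (by simpa only [mul_inv_rev, mul_assoc] using mul_mem (mul_mem g5 g1) (inv_mem g5))
  exact H K ⟨n, (mul_mem_cancel_left (g6 1)).1 g5, _, hc⟩ g4 fun _ => g6

omit [Finite F] in
theorem twoGen_of_two (hF : ∀ t : F, t = 0 ∨ t = 1) {a b : Φ}
    (h1 : Commute (C.x a 1) (C.x b 1)) (h2 : Commute (C.x a 1) (C.x (R.neg b) 1))
    (H : ∀ K, w ∈ C.WK K → C.RS K a → C.x b 1 * C.x (R.neg b) 1 ∈ K → C.grp ≤ K) : TwoGen G := by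
  obtain ⟨n, hn⟩ := C.exists_nw_of_mem_W hw
  obtain ⟨c, hc⟩ := hn.exists_acts
  have h4 : (-1 : F) = 1 := (hF _).resolve_left (by simp)
  have h5 : C.x a 1 * C.x a 1 = 1 := by
    rw [← C.x_add, show (1 + 1 : F) = 0 by linear_combination -h4, C.x_zero]
  have h6 : (C.x b 1 * C.x (R.neg b) 1) ^ 3 = 1 := by
    have e1 := (C.st2 b).w_eq (t := 1) one_ne_zero
    have e2 := (C.st2 b).w_neg 1
    rw [h4, eq_inv_iff_mul_eq_one] at e2
    nth_rw 2 [e1] at e2
    simpa [Root.stW, h4, pow_succ, mul_assoc] using e2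
  refine twoGen_of htop n (C.x a 1 * (C.x b 1 * C.x (R.neg b) 1)) fun K g1 g2 => ?_
  have g3 := pow_mem g2 3
  rw [(h1.mul_right h2).mul_pow, h6, mul_one, pow_succ, pow_two, h5, one_mul] at g3
  refine H K ⟨n, g1, _, hc⟩ (fun t => ?_) ((mul_mem_cancel_left g3).1 g2)
  rcases hF t with rfl | rfl
  · simp
  · exact g3

end ChevSys

end Cfsg.Lib.Chev
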