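import Cfsg.Agent.Lib.Chev.HomoCyc

/-!
Certificates for homocyclic subgroups of maximal tori.
-/

set_option autoImplicit false
set_option synthInstance.maxSize 20000

namespace Cfsg.Lib.Chev
open Cfsg.Lie

/-- Certificates. -/
def hcG2 : List HC := [
  ⟨1, [-1], [], 1, [[1, 0], [0, 1]], [[1, 0], [0, 1]], [[1, 0], [0, 1]], 1⟩,
  ⟨2, [1], [0, 1], 3, [[-1, 0], [0, -1]], [[1, 0], [0, 1]], [[1, 0], [0, 1]], 1⟩,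
  ⟨3, [1, 1], [0, 1], 2, [[1, -1], [3, -2]], [[-1, 0], [-1, 1]], [[-1, 0]], 1⟩,
  ⟨6, [1, -1], [0, 1], 1, [[2, -1], [3, -1]], [[-1, 0], [-2, 1]], [[-1, 0]], 1⟩]

theorem hcG2_ok : (∀ i : Fin chevG2.rank, (([[2, -1], [-3, 2]] : List (List ℤ)).getD i []).length = chevG2.rank ∧
    ∀ j : Fin chevG2.rank, toM chevG2.rank chevG2.rank [[2, -1], [-3, 2]] i j =
      toM chevG2.rank chevG2.rank cartanG2 j i) ∧ 2 ∣ [2, 6].prod ∧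
    (∀ H ∈ hcG2, H.ok chevG2.rank [[2, -1], [-3, 2]] [2, 6]) ∧
      ∀ e ∈ [2, 6], ∀ d ∈ e.divisors, ∃ H ∈ hcG2, H.d = d := by
  decide +kernel

/-- Certificates. -/
def hcB2 : List HC := [
  ⟨1, [-1], [], 1, [[1, 0], [0, 1]], [[1, 0], [0, 1]], [[1, 0], [0, 1]], 1⟩,
  ⟨2, [1], [0, 1], 2, [[-1, 0], [0, -1]], [[1, 0], [0, 1]], [[1, 0], [0, 1]], 1⟩,
  ⟨4, [1, 0], [0, 1], 1, [[1, -1], [2, -1]], [[-1, 0], [-1, 1]], [[-1, 0]], 1⟩]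

theorem hcB2_ok : (∀ i : Fin chevB2.rank, (([[2, -1], [-2, 2]] : List (List ℤ)).getD i []).length = chevB2.rank ∧
    ∀ j : Fin chevB2.rank, toM chevB2.rank chevB2.rank [[2, -1], [-2, 2]] i j =
      toM chevB2.rank chevB2.rank cartanB2 j i) ∧ 2 ∣ [2, 4].prod ∧
    (∀ H ∈ hcB2, H.ok chevB2.rank [[2, -1], [-2, 2]] [2, 4]) ∧
      ∀ e ∈ [2, 4], ∀ d ∈ e.divisors, ∃ H ∈ hcB2, H.d = d := by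
  decide +kernel

/-- Certificates. -/
def hcD4 : List HC := [
  ⟨1, [-1], [], 1, [[1, 0, 0, 0], [0, 1, 0, 0], [0, 0, 1, 0], [0, 0, 0, 1]], [[1, 0, 0, 0], [0, 1,
    0, 0], [0, 0, 1, 0], [0, 0, 0, 1]], [[1, 0, 0, 0], [0, 1, 0, 0], [0, 0, 1, 0], [0, 0, 0, 1]],
    1⟩,
  ⟨2, [1], [0, 1, 2, 3], 3, [[-1, 0, 0, 0], [0, -1, 0, 0], [0, 0, -1, 0], [0, 0, 0, -1]], [[1, 0,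
    0, 0], [0, 1, 0, 0], [0, 0, 1, 0], [0, 0, 0, 1]], [[1, 0, 0, 0], [0, 1, 0, 0], [0, 0, 1, 0],
    [0, 0, 0, 1]], 1⟩,
  ⟨3, [1, 1], [0, 1, 2, 3], 2, [[1, -1, 0, 0], [1, 0, -1, -1], [1, 0, 0, -1], [1, 0, -1, 0]], [[1,
    0], [1, -1], [0, -1], [0, -1]], [[1, 0, 0, 0]], 1⟩,
  ⟨4, [1, 0], [3, 1, 2, 0, 1, 0], 1, [[0, -1, 1, 1], [0, -1, 0, 2], [-1, 0, 0, 1], [0, -1, 0, 1]],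
    [[0, 1, -1, 0], [0, 0, -1, 1], [-1, 0, 0, 0], [0, 0, -1, 0]], [[0, 0, -1, 0], [0, 0, 0, -1]],
    1⟩,
  ⟨6, [1, -1], [0, 1, 2, 3], 1, [[0, 1, -1, -1], [1, 1, -1, -1], [0, 1, -1, 0], [0, 1, 0, -1]],
    [[-1, 1], [-1, 2], [0, 1], [0, 1]], [[-2, 1, 0, 0]], 1⟩]

theorem hcD4_ok : (∀ i : Fin chevD4.rank, (([[2, -1, 0, 0], [-1, 2, -1, -1], [0, -1, 2, 0], [0, -1, 0, 2]] : List (List ℤ)).getD i []).length = chevD4.rank ∧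
    ∀ j : Fin chevD4.rank, toM chevD4.rank chevD4.rank [[2, -1, 0, 0], [-1, 2, -1, -1], [0, -1, 2, 0], [0, -1, 0, 2]] i j =
      toM chevD4.rank chevD4.rank cartanD4 j i) ∧ 2 ∣ [2, 4, 4, 6].prod ∧
    (∀ H ∈ hcD4, H.ok chevD4.rank [[2, -1, 0, 0], [-1, 2, -1, -1], [0, -1, 2, 0], [0, -1, 0, 2]] [2, 4, 4, 6]) ∧
      ∀ e ∈ [2, 4, 4, 6], ∀ d ∈ e.divisors, ∃ H ∈ hcD4, H.d = d := by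
  decide +kernel

/-- Certificates. -/
def hcF4 : List HC := [
  ⟨1, [-1], [], 1, [[1, 0, 0, 0], [0, 1, 0, 0], [0, 0, 1, 0], [0, 0, 0, 1]], [[1, 0, 0, 0], [0, 1,
    0, 0], [0, 0, 1, 0], [0, 0, 0, 1]], [[1, 0, 0, 0], [0, 1, 0, 0], [0, 0, 1, 0], [0, 0, 0, 1]],
    1⟩,
  ⟨2, [1], [0, 1, 2, 3], 6, [[-1, 0, 0, 0], [0, -1, 0, 0], [0, 0, -1, 0], [0, 0, 0, -1]], [[1, 0,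
    0, 0], [0, 1, 0, 0], [0, 0, 1, 0], [0, 0, 0, 1]], [[1, 0, 0, 0], [0, 1, 0, 0], [0, 0, 1, 0],
    [0, 0, 0, 1]], 1⟩,
  ⟨3, [1, 1], [0, 1, 2, 3], 4, [[0, 1, -1, 0], [1, 1, -1, -1], [2, 2, -2, -1], [0, 2, -1, -1]],
    [[-1, 0, -1, 0], [-1, 0, 0, 0], [-1, 1, 0, 1], [-1, 0, -1, -1]], [[0, -1, 0, 0], [-1, 1, 0,
    0]], 1⟩,
  ⟨4, [1, 0], [0, 1, 2, 3], 3, [[1, 0, 0, -1], [2, 1, -1, -1], [2, 2, -1, -2], [2, 0, 0, -1]],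
    [[1, 0, 0, 0], [0, 0, -1, 0], [1, 1, -1, 1], [1, -1, 0, 0]], [[1, 0, 0, 0], [0, -1, 0, 0]], 1⟩,
  ⟨6, [1, -1], [0, 1, 2, 3], 2, [[1, 1, -1, 0], [1, 2, -1, -1], [2, 2, -1, -1], [0, 2, -1, 0]],
    [[-1, 1, 0, 0], [0, 0, -1, 0], [0, 1, -1, 0], [-1, 0, -1, 1]], [[-1, -1, 1, 0], [0, -1, 0,
    0]], 1⟩,
  ⟨8, [1, 0, 0, 0], [2, 1, 2, 3, 1, 0], 1, [[-1, 1, 0, 0], [-2, 1, 1, -1], [-2, 2, 1, -2], [0, 0,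
    1, -1]], [[0, -1, 1, 0], [0, -1, 0, 1], [-2, 0, 0, 0], [-1, 1, -1, 1]], [[0, 0, -1, 0]], 2⟩,
  ⟨12, [1, 0, -1, 0], [0, 1, 2, 3], 1, [[0, 1, 0, -1], [1, 1, 0, -1], [0, 2, 0, -1], [0, 0, 1,
    -1]], [[0, 0, -1, 0], [0, -1, -1, 0], [-1, -1, -1, 0], [0, -1, -1, 1]], [[0, 1, -1, 0]], 1⟩]

theorem hcF4_ok : (∀ i : Fin chevF4.rank, (([[2, -1, 0, 0], [-1, 2, -1, 0], [0, -2, 2, -1], [0, 0, -1, 2]] : List (List ℤ)).getD i []).length = chevF4.rank ∧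
    ∀ j : Fin chevF4.rank, toM chevF4.rank chevF4.rank [[2, -1, 0, 0], [-1, 2, -1, 0], [0, -2, 2, -1], [0, 0, -1, 2]] i j =
      toM chevF4.rank chevF4.rank cartanF4 j i) ∧ 2 ∣ [2, 6, 8, 12].prod ∧
    (∀ H ∈ hcF4, H.ok chevF4.rank [[2, -1, 0, 0], [-1, 2, -1, 0], [0, -2, 2, -1], [0, 0, -1, 2]] [2, 6, 8, 12]) ∧
      ∀ e ∈ [2, 6, 8, 12], ∀ d ∈ e.divisors, ∃ H ∈ hcF4, H.d = d := by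
  decide +kernel

/-- Certificates. -/
def hcE6 : List HC := [
  ⟨1, [-1], [], 1, [[1, 0, 0, 0, 0, 0], [0, 1, 0, 0, 0, 0], [0, 0, 1, 0, 0, 0], [0, 0, 0, 1, 0,
    0], [0, 0, 0, 0, 1, 0], [0, 0, 0, 0, 0, 1]], [[1, 0, 0, 0, 0, 0], [0, 1, 0, 0, 0, 0], [0, 0,
    1, 0, 0, 0], [0, 0, 0, 1, 0, 0], [0, 0, 0, 0, 1, 0], [0, 0, 0, 0, 0, 1]], [[1, 0, 0, 0, 0, 0],
    [0, 1, 0, 0, 0, 0], [0, 0, 1, 0, 0, 0], [0, 0, 0, 1, 0, 0], [0, 0, 0, 0, 1, 0], [0, 0, 0, 0,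
    0, 1]], 1⟩,
  ⟨2, [1], [0, 1, 2, 3, 4, 5], 6, [[0, 0, 0, -1, 1, 0], [0, -1, 0, 0, 0, 0], [0, 0, 0, -1, 0, 1],
    [0, 0, 0, -1, 0, 0], [1, 0, 0, -1, 0, 0], [0, 0, 1, -1, 0, 0]], [[0, 1, 0, 1], [1, 0, 0, 0],
    [0, 0, 1, 1], [0, 0, 0, 2], [0, -1, 0, 1], [0, 0, -1, 1]], [[0, 2, 0, 0, 0, 0], [2, 0, 0, -1,
    0, 0], [0, 0, 2, -1, 0, 0], [0, 0, 0, 1, 0, 0]], 2⟩,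
  ⟨3, [1, 1], [0, 1, 2, 3, 4, 5], 4, [[0, 0, 0, 0, 0, -1], [1, 0, 0, 0, -1, 0], [1, 1, 0, -1, 0,
    -1], [1, 1, 1, -1, -1, -1], [1, 1, 0, 0, -1, -1], [1, 0, 0, 0, 0, -1]], [[1, 1, 0, 0, 0, 0],
    [1, 0, 1, 1, 0, 0], [1, 0, 1, 0, 1, 1], [1, 0, 1, 0, 1, 0], [1, 0, 1, 0, 0, 0], [1, 0, 0, 0,
    0, 0]], [[0, 0, 0, 0, 0, 1], [0, 0, 0, 0, 1, -1], [0, 0, 0, 1, -1, 0]], 1⟩,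
  ⟨4, [1, 0], [0, 1, 2, 3, 4, 5], 3, [[1, 1, 0, -1, 0, 0], [0, 1, 1, -1, 0, -1], [1, 1, 1, -1, -1,
    0], [1, 2, 1, -1, -1, -1], [1, 1, 1, -1, 0, -1], [0, 1, 1, -1, 0, 0]], [[1, 1, -1, -1], [0, 0,
    2, -2], [2, 0, 0, 0], [2, 0, 0, -2], [1, -1, 1, -1], [0, 0, 0, -2]], [[0, 0, 1, 0, 0, 0], [0,
    1, 1, -1, 0, 0]], 2⟩,
  ⟨5, [1, 1, 1, 1], [5, 2, 1, 3, 0], 1, [[-1, 0, 1, 0, 0, 0], [0, 0, 1, -1, 1, 0], [-1, 1, 1, -1,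
    1, 0], [0, 1, 1, -1, 1, 0], [0, 0, 0, 0, 1, 0], [0, 0, 0, 0, 1, -1]], [[0, 0, 1, 1], [-1, -1,
    0, 0], [-1, -1, 0, 1], [-1, 0, 1, 1], [0, 0, 0, 0], [0, 0, 0, 0]], [[1, 0, 0, -1, 0, 0]], 1⟩,
  ⟨6, [1, -1], [0, 1, 2, 3, 4, 5], 2, [[0, 0, 1, 0, -1, 0], [1, 1, 0, 0, -1, 0], [0, 1, 1, 0, -1,
    -1], [1, 1, 1, 0, -1, -1], [0, 1, 1, 0, -1, 0], [0, 0, 0, 1, -1, 0]], [[-1, 0, 0, 0], [0, 0,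
    -1, 1], [-1, -1, 0, 1], [-2, 0, 0, 1], [-1, 0, 0, 1], [-1, 1, 0, 0]], [[-1, 0, 0, 0, 0, 0],
    [-2, -1, 0, 1, 0, 0]], 1⟩,
  ⟨8, [1, 0, 0, 0], [5, 3, 4, 2, 1], 1, [[1, 0, 0, 0, 0, 0], [0, -1, 0, 1, 0, 0], [1, 0, -1, 1, 0,
    0], [1, -1, -1, 2, -1, 1], [0, 0, 0, 1, -1, 1], [0, 0, 0, 1, -1, 0]], [[0, 0, 0, 0], [-1, 0,
    0, 0], [-1, 0, 0, 0], [-1, -1, 0, 0], [0, -1, 0, 1], [0, 0, -1, 1]], [[0, -1, 0, 0, 0, 0]], 1⟩,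
  ⟨9, [1, 0, 0, 1, 0, 0], [5, 1, 3, 4, 1, 3, 2, 0], 1, [[-1, 0, 1, 0, 0, 0], [-1, 0, 0, 1, -1, 1],
    [-1, 0, 0, 1, 0, 0], [-2, 0, 0, 1, 0, 1], [-1, 1, 0, 0, 0, 1], [-1, 1, 0, 0, 0, 0]], [[-1, 0,
    0, 0, 0, 0], [-1, -1, 0, 0, -1, 0], [-1, -1, 0, 0, 0, 0], [-1, -1, -1, 0, 0, 0], [-1, 0, 0,
    -1, 0, 1], [-1, 0, 0, -1, 0, 0]], [[-1, 0, 0, 0, 0, 0]], 1⟩,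
  ⟨12, [1, 0, -1, 0], [0, 1, 2, 3, 4, 5], 1, [[0, 1, 0, 0, 0, -1], [0, 0, 1, 0, 0, -1], [1, 1, 0,
    0, 0, -1], [0, 1, 1, 0, 0, -1], [0, 0, 0, 1, 0, -1], [0, 0, 0, 0, 1, -1]], [[0, 0, 1, 0], [1,
    0, 0, 1], [0, 1, 1, 0], [1, 1, 1, 0], [1, 1, 0, 0], [1, 0, 0, 0]], [[0, 0, -1, 1, 0, 0]], 1⟩]

theorem hcE6_ok : (∀ i : Fin chevE6.rank, (([[2, 0, -1, 0, 0, 0], [0, 2, 0, -1, 0, 0], [-1, 0, 2, -1, 0, 0], [0, -1, -1, 2, -1, 0], [0, 0, 0, -1, 2, -1], [0, 0, 0, 0, -1, 2]] : List (List ℤ)).getD i []).length = chevE6.rank ∧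
    ∀ j : Fin chevE6.rank, toM chevE6.rank chevE6.rank [[2, 0, -1, 0, 0, 0], [0, 2, 0, -1, 0, 0], [-1, 0, 2, -1, 0, 0], [0, -1, -1, 2, -1, 0], [0, 0, 0, -1, 2, -1], [0, 0, 0, 0, -1, 2]] i j =
      toM chevE6.rank chevE6.rank cartanE6 j i) ∧ 2 ∣ [2, 5, 6, 8, 9, 12].prod ∧
    (∀ H ∈ hcE6, H.ok chevE6.rank [[2, 0, -1, 0, 0, 0], [0, 2, 0, -1, 0, 0], [-1, 0, 2, -1, 0, 0], [0, -1, -1, 2, -1, 0], [0, 0, 0, -1, 2, -1], [0, 0, 0, 0, -1, 2]] [2, 5, 6, 8, 9, 12]) ∧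
      ∀ e ∈ [2, 5, 6, 8, 9, 12], ∀ d ∈ e.divisors, ∃ H ∈ hcE6, H.d = d := by
  decide +kernel

/-- Certificates. -/
def hcE7 : List HC := [
  ⟨1, [-1], [], 1, [[1, 0, 0, 0, 0, 0, 0], [0, 1, 0, 0, 0, 0, 0], [0, 0, 1, 0, 0, 0, 0], [0, 0, 0,
    1, 0, 0, 0], [0, 0, 0, 0, 1, 0, 0], [0, 0, 0, 0, 0, 1, 0], [0, 0, 0, 0, 0, 0, 1]], [[1, 0, 0,
    0, 0, 0, 0], [0, 1, 0, 0, 0, 0, 0], [0, 0, 1, 0, 0, 0, 0], [0, 0, 0, 1, 0, 0, 0], [0, 0, 0, 0,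
    1, 0, 0], [0, 0, 0, 0, 0, 1, 0], [0, 0, 0, 0, 0, 0, 1]], [[1, 0, 0, 0, 0, 0, 0], [0, 1, 0, 0,
    0, 0, 0], [0, 0, 1, 0, 0, 0, 0], [0, 0, 0, 1, 0, 0, 0], [0, 0, 0, 0, 1, 0, 0], [0, 0, 0, 0, 0,
    1, 0], [0, 0, 0, 0, 0, 0, 1]], 1⟩,
  ⟨2, [1], [0, 1, 2, 3, 4, 5, 6], 9, [[-1, 0, 0, 0, 0, 0, 0], [0, -1, 0, 0, 0, 0, 0], [0, 0, -1,
    0, 0, 0, 0], [0, 0, 0, -1, 0, 0, 0], [0, 0, 0, 0, -1, 0, 0], [0, 0, 0, 0, 0, -1, 0], [0, 0, 0,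
    0, 0, 0, -1]], [[1, 0, 0, 0, 0, 0, 0], [0, 1, 0, 0, 0, 0, 0], [0, 0, 1, 0, 0, 0, 0], [0, 0, 0,
    1, 0, 0, 0], [0, 0, 0, 0, 1, 0, 0], [0, 0, 0, 0, 0, 1, 0], [0, 0, 0, 0, 0, 0, 1]], [[1, 0, 0,
    0, 0, 0, 0], [0, 1, 0, 0, 0, 0, 0], [0, 0, 1, 0, 0, 0, 0], [0, 0, 0, 1, 0, 0, 0], [0, 0, 0, 0,
    1, 0, 0], [0, 0, 0, 0, 0, 1, 0], [0, 0, 0, 0, 0, 0, 1]], 1⟩,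
  ⟨3, [1, 1], [0, 1, 2, 3, 4, 5, 6], 6, [[0, 1, 0, 0, -1, 0, 0], [0, 1, 1, -1, 0, -1, 0], [1, 1,
    0, 0, -1, -1, 0], [1, 2, 1, -1, -1, -1, -1], [1, 2, 1, -1, -1, -1, 0], [0, 1, 1, 0, -1, -1,
    0], [0, 1, 0, 0, 0, -1, 0]], [[0, 0, 0, 0, -2, -1], [1, 0, -1, 0, 0, 0], [0, 0, -2, -1, -1,
    1], [1, -1, -2, -1, -1, 1], [1, 0, -1, 0, -1, 1], [0, 0, -1, 1, 0, 0], [-1, -1, -1, 0, 0, 0]],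
    [[0, 2, -1, 0, 1, -1, 0], [0, -1, -1, 0, 1, -1, 0], [-1, 1, 0, 0, -1, 0, 0]], 3⟩,
  ⟨4, [1, 0], [5, 0, 2, 1, 3, 4], 3, [[1, 1, 0, -1, 0, 0, 1], [0, 1, 1, -1, -1, 1, 1], [1, 1, 1,
    -1, -1, 0, 2], [1, 2, 1, -1, -2, 1, 2], [1, 1, 1, -1, -1, 1, 1], [1, 0, 0, 0, -1, 1, 1], [0,
    0, 0, 0, 0, 0, 1]], [[1, 0, -1, 1], [-1, 1, -1, -1], [0, -1, 0, 1], [0, 0, -1, 1], [-1, 0, 0,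
    0], [-1, -1, 1, 0], [0, 0, 0, 0]], [[1, 0, 0, -1, 0, 0, 0], [-1, -1, -1, 1, 0, 0, 0]], 1⟩,
  ⟨5, [1, 1, 1, 1], [6, 5, 4, 3], 1, [[1, 0, 0, 0, 0, 0, 0], [0, 1, 0, 0, 0, 0, 0], [0, 0, 1, 0,
    0, 0, 0], [0, 1, 1, -1, 1, 0, 0], [0, 1, 1, -1, 0, 1, 0], [0, 1, 1, -1, 0, 0, 1], [0, 1, 1,
    -1, 0, 0, 0]], [[0, 0, 0, 0], [0, 0, 0, 0], [0, 0, 0, 0], [-1, 0, -1, 0], [-1, -1, -1, -1],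
    [0, 0, -1, 0], [-1, 0, -1, -1]], [[0, 0, 0, -1, 0, 1, 0]], 1⟩,
  ⟨6, [1, -1], [0, 1, 2, 3, 4, 5, 6], 3, [[1, 1, 0, 0, -1, 0, 0], [0, 1, 1, 0, -1, 0, -1], [1, 1,
    1, 0, -1, -1, 0], [1, 2, 1, 0, -1, -1, -1], [1, 1, 1, 0, -1, 0, -1], [0, 1, 1, 0, -1, 0, 0],
    [0, 0, 0, 1, -1, 0, 0]], [[0, 0, 0, 0, 1, 1], [-1, 0, 0, 0, -1, 1], [0, 0, 1, 1, 2, -1], [-2,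
    1, -1, 2, 1, 1], [-1, 0, 0, 0, 1, 0], [0, 0, 2, -1, 0, 0], [0, 1, 1, 1, 1, 0]], [[1, -1, 0, 0,
    -2, 0, 0], [0, 1, 1, 0, -1, 1, 0], [1, -1, 0, 0, 1, 0, 0]], 3⟩,
  ⟨7, [1, 1, 1, 1, 1, 1], [6, 3, 4, 5, 2, 0], 1, [[-1, 0, 1, 0, 0, 0, 0], [0, 1, 0, 0, 0, 0, 0],
    [-1, 0, 0, 1, 0, 0, 0], [-1, 1, 0, 1, 0, -1, 1], [0, 0, 0, 1, 0, -1, 1], [0, 0, 0, 0, 1, -1,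
    1], [0, 0, 0, 0, 1, -1, 0]], [[1, -1, 0, 0, 0, 0], [0, 0, 0, 0, 0, 0], [1, 0, -1, 0, 0, 0],
    [1, 0, 0, -1, 0, 0], [-1, -1, -1, -2, -1, -1], [0, 0, 0, -1, 0, 1], [0, 0, 0, 0, -1, 1]], [[1,
    0, 1, 4, -1, -2, 1]], 7⟩,
  ⟨8, [1, 0, 0, 0], [5, 4, 2, 1, 3], 1, [[1, 0, 0, 0, 0, 0, 0], [0, 0, 1, -1, 1, 0, 0], [1, 1, 0,
    -1, 1, 0, 0], [0, 1, 1, -1, 1, 0, 0], [0, 1, 1, -1, 0, 1, 0], [0, 1, 1, -1, 0, 0, 1], [0, 0,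
    0, 0, 0, 0, 1]], [[0, 0, 0, 0], [0, 0, 1, 0], [0, 0, 1, 0], [0, 1, 1, 0], [0, 1, 0, 1], [-1,
    1, 0, 0], [0, 0, 0, 0]], [[0, 0, -1, 1, 0, -1, 0]], 1⟩,
  ⟨9, [1, 0, 0, 1, 0, 0], [0, 1, 2, 3, 4, 5, 6], 2, [[0, 0, 1, 0, 0, -1, 0], [1, 1, 0, 0, 0, -1,
    0], [0, 1, 1, 0, 0, -1, -1], [1, 1, 1, 0, 0, -1, -1], [0, 1, 1, 0, 0, -1, 0], [0, 0, 0, 1, 0,
    -1, 0], [0, 0, 0, 0, 1, -1, 0]], [[0, 0, 1, -1, 0, 0], [1, 0, 0, 0, 0, 0], [1, -1, 1, 0, -1,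
    0], [1, 0, 0, 0, -1, 0], [0, 0, 0, -1, 0, -1], [1, -1, 1, -1, 0, 0], [1, -1, 1, 0, -1, 1]],
    [[0, 1, 0, 0, 0, 0, 0]], 1⟩,
  ⟨10, [1, -1, 1, -1], [6, 5, 2, 3, 4, 1], 1, [[1, 0, 0, 0, 0, 0, 0], [0, -1, 0, 1, 0, 0, 0], [1,
    -1, 0, 1, -1, 1, 0], [0, -1, 1, 1, -1, 1, 0], [0, 0, 0, 1, -1, 1, 0], [0, 0, 0, 1, -1, 0, 1],
    [0, 0, 0, 1, -1, 0, 0]], [[0, 0, 0, 0], [-1, -1, 0, 0], [0, -1, -1, 0], [-1, -2, -1, 0], [-2,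
    0, -2, 1], [-2, 1, -2, 0], [-1, 0, 0, -1]], [[0, -2, 2, 0, -1, 0, -1]], 5⟩,
  ⟨12, [1, 0, -1, 0], [5, 0, 2, 1, 3, 4], 1, [[0, 1, 0, 0, -1, 1, 0], [0, 0, 1, 0, -1, 1, 0], [1,
    1, 0, 0, -1, 1, 0], [0, 1, 1, 0, -1, 1, 0], [0, 0, 0, 1, -1, 1, 0], [0, 0, 0, 1, -1, 0, 1],
    [0, 0, 0, 0, 0, 0, 1]], [[0, 0, -1, 0], [-1, 0, 0, -1], [0, -1, -1, 0], [-1, -1, -1, 0], [-1,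
    -1, 0, 0], [0, -1, 0, 0], [0, 0, 0, 0]], [[0, 0, 1, -1, 0, 0, 0]], 1⟩,
  ⟨14, [1, -1, 1, -1, 1, -1], [6, 2, 1, 3, 4, 5, 1, 3, 0], 1, [[-1, 0, 1, 0, 0, 0, 0], [0, 0, 1,
    0, 0, -1, 1], [-1, 0, 2, -1, 1, -1, 1], [0, 0, 2, -1, 1, -1, 1], [0, 1, 1, -1, 1, -1, 1], [0,
    0, 0, 0, 1, -1, 1], [0, 0, 0, 0, 1, -1, 0]], [[0, 0, 0, 1, -1, 0], [-1, 2, -1, 1, -1, 0], [0,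
    0, 0, 1, 0, -1], [0, 0, 1, 0, 0, -1], [1, 0, 0, 0, 0, 0], [0, 1, -1, 0, 1, -1], [0, 0, 1, -2,
    2, -1]], [[0, 0, 0, 0, 1, 0, 0]], 1⟩,
  ⟨18, [1, 0, 0, -1, 0, 0], [0, 1, 2, 3, 4, 5, 6], 1, [[0, 1, 0, 0, 0, 0, -1], [0, 0, 1, 0, 0, 0,
    -1], [1, 1, 0, 0, 0, 0, -1], [0, 1, 1, 0, 0, 0, -1], [0, 0, 0, 1, 0, 0, -1], [0, 0, 0, 0, 1,
    0, -1], [0, 0, 0, 0, 0, 1, -1]], [[1, 0, 0, 0, 0, 1], [0, 1, 0, 1, 0, 0], [1, 0, 1, 0, 1, 0],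
    [1, 1, 1, 1, 0, 0], [1, 1, 1, 0, 0, 0], [1, 1, 0, 0, 0, 0], [1, 0, 0, 0, 0, 0]], [[0, -1, 0,
    1, -1, 1, 0]], 1⟩]

theorem hcE7_ok : (∀ i : Fin chevE7.rank, (([[2, 0, -1, 0, 0, 0, 0], [0, 2, 0, -1, 0, 0, 0], [-1, 0, 2, -1, 0, 0, 0], [0, -1, -1, 2, -1, 0, 0], [0, 0, 0, -1, 2, -1, 0], [0, 0, 0, 0, -1, 2, -1], [0, 0, 0, 0, 0, -1, 2]] : List (List ℤ)).getD i []).length = chevE7.rank ∧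
    ∀ j : Fin chevE7.rank, toM chevE7.rank chevE7.rank [[2, 0, -1, 0, 0, 0, 0], [0, 2, 0, -1, 0, 0, 0], [-1, 0, 2, -1, 0, 0, 0], [0, -1, -1, 2, -1, 0, 0], [0, 0, 0, -1, 2, -1, 0], [0, 0, 0, 0, -1, 2, -1], [0, 0, 0, 0, 0, -1, 2]] i j =
      toM chevE7.rank chevE7.rank cartanE7 j i) ∧ 2 ∣ [2, 6, 8, 10, 12, 14, 18].prod ∧
    (∀ H ∈ hcE7, H.ok chevE7.rank [[2, 0, -1, 0, 0, 0, 0], [0, 2, 0, -1, 0, 0, 0], [-1, 0, 2, -1, 0, 0, 0], [0, -1, -1, 2, -1, 0, 0], [0, 0, 0, -1, 2, -1, 0], [0, 0, 0, 0, -1, 2, -1], [0, 0, 0, 0, 0, -1, 2]] [2, 6, 8, 10, 12, 14, 18]) ∧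
      ∀ e ∈ [2, 6, 8, 10, 12, 14, 18], ∀ d ∈ e.divisors, ∃ H ∈ hcE7, H.d = d := by
  decide +kernel

/-- Certificates. -/
def hcE8 : List HC := [
  ⟨1, [-1], [], 1, [[1, 0, 0, 0, 0, 0, 0, 0], [0, 1, 0, 0, 0, 0, 0, 0], [0, 0, 1, 0, 0, 0, 0, 0],
    [0, 0, 0, 1, 0, 0, 0, 0], [0, 0, 0, 0, 1, 0, 0, 0], [0, 0, 0, 0, 0, 1, 0, 0], [0, 0, 0, 0, 0,
    0, 1, 0], [0, 0, 0, 0, 0, 0, 0, 1]], [[1, 0, 0, 0, 0, 0, 0, 0], [0, 1, 0, 0, 0, 0, 0, 0], [0,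
    0, 1, 0, 0, 0, 0, 0], [0, 0, 0, 1, 0, 0, 0, 0], [0, 0, 0, 0, 1, 0, 0, 0], [0, 0, 0, 0, 0, 1,
    0, 0], [0, 0, 0, 0, 0, 0, 1, 0], [0, 0, 0, 0, 0, 0, 0, 1]], [[1, 0, 0, 0, 0, 0, 0, 0], [0, 1,
    0, 0, 0, 0, 0, 0], [0, 0, 1, 0, 0, 0, 0, 0], [0, 0, 0, 1, 0, 0, 0, 0], [0, 0, 0, 0, 1, 0, 0,
    0], [0, 0, 0, 0, 0, 1, 0, 0], [0, 0, 0, 0, 0, 0, 1, 0], [0, 0, 0, 0, 0, 0, 0, 1]], 1⟩,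
  ⟨2, [1], [0, 1, 2, 3, 4, 5, 6, 7], 15, [[-1, 0, 0, 0, 0, 0, 0, 0], [0, -1, 0, 0, 0, 0, 0, 0],
    [0, 0, -1, 0, 0, 0, 0, 0], [0, 0, 0, -1, 0, 0, 0, 0], [0, 0, 0, 0, -1, 0, 0, 0], [0, 0, 0, 0,
    0, -1, 0, 0], [0, 0, 0, 0, 0, 0, -1, 0], [0, 0, 0, 0, 0, 0, 0, -1]], [[1, 0, 0, 0, 0, 0, 0,
    0], [0, 1, 0, 0, 0, 0, 0, 0], [0, 0, 1, 0, 0, 0, 0, 0], [0, 0, 0, 1, 0, 0, 0, 0], [0, 0, 0, 0,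
    1, 0, 0, 0], [0, 0, 0, 0, 0, 1, 0, 0], [0, 0, 0, 0, 0, 0, 1, 0], [0, 0, 0, 0, 0, 0, 0, 1]],
    [[1, 0, 0, 0, 0, 0, 0, 0], [0, 1, 0, 0, 0, 0, 0, 0], [0, 0, 1, 0, 0, 0, 0, 0], [0, 0, 0, 1, 0,
    0, 0, 0], [0, 0, 0, 0, 1, 0, 0, 0], [0, 0, 0, 0, 0, 1, 0, 0], [0, 0, 0, 0, 0, 0, 1, 0], [0, 0,
    0, 0, 0, 0, 0, 1]], 1⟩,
  ⟨3, [1, 1], [0, 1, 2, 3, 4, 5, 6, 7], 10, [[0, 1, 1, -1, 0, 0, -1, 0], [1, 1, 1, -1, 0, -1, 0,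
    -1], [1, 2, 1, -1, -1, 0, -1, -1], [2, 3, 2, -2, -1, -1, -1, -1], [1, 2, 2, -1, -1, -1, -1,
    -1], [1, 2, 1, -1, 0, -1, -1, -1], [1, 1, 1, -1, 0, 0, -1, -1], [0, 1, 1, -1, 0, 0, 0, -1]],
    [[1, 1, 0, 1, 1, 0, 1, 0], [1, 0, 0, 0, 2, 1, 0, 0], [1, 0, -1, -1, 3, 0, 1, 1], [2, 0, 0, 0,
    4, 0, 1, 0], [1, 0, -1, 0, 2, -1, 1, 0], [1, 0, 0, 0, 2, 0, 0, 0], [1, 0, 0, 0, 1, 0, 0, 0],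
    [0, 0, -1, 0, 1, 0, 1, 1]], [[0, 0, 0, 0, 0, -1, 2, 0], [0, -1, 0, 1, -1, 0, 0, 0], [0, 0, 0,
    0, 0, 1, -1, 0], [0, 0, 0, 1, 0, -2, 0, 0]], 1⟩,
  ⟨4, [1, 0], [6, 7, 5, 3, 4, 1, 3, 0, 2, 1], 6, [[1, 0, -2, 1, -1, 1, 1, -1], [1, -1, -3, 2, -1,
    1, 1, 0], [2, -1, -4, 3, -2, 1, 2, -1], [3, -2, -6, 4, -2, 1, 3, -1], [2, -2, -4, 3, -2, 1, 3,
    -1], [1, -2, -3, 3, -2, 1, 2, -1], [1, -1, -2, 2, -2, 1, 1, 0], [1, -1, -1, 1, -1, 1, 0, 0]],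
    [[2, 1, 1, 1, 1, 0, 1, 0], [2, 0, 0, 1, 0, 1, 1, 1], [3, 0, 1, 0, 0, 0, 2, 0], [4, 0, 1, 0,
    -1, 0, 2, 1], [3, 0, 0, 0, -1, 0, 1, 0], [2, 1, -1, 0, -1, 1, 1, 0], [2, 0, 0, 0, 0, 0, 1, 0],
    [2, 0, 0, 0, 0, 0, 0, 0]], [[0, 0, 0, 0, 0, 0, 0, 1], [0, 0, 2, 0, 0, 0, -4, 1], [0, 0, 0, 0,
    -2, 0, 2, 1], [0, 0, 0, 0, 0, 0, 2, -2]], 2⟩,
  ⟨5, [1, 1, 1, 1], [0, 1, 2, 3, 4, 5, 6, 7], 6, [[1, 1, 0, 0, 0, -1, 0, -1], [1, 1, 1, 0, -1, 0,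
    -1, -1], [2, 2, 1, -1, 0, -1, -1, -1], [2, 3, 2, -1, -1, -1, -1, -2], [2, 2, 1, 0, -1, -1, -1,
    -1], [1, 1, 1, 0, 0, -1, -1, -1], [1, 1, 0, 0, 0, 0, -1, -1], [1, 0, 0, 0, 0, 0, 0, -1]], [[0,
    0, 0, 0, 1, 1, 1, 0], [-1, -1, -1, 0, -1, 0, 0, 0], [0, -1, -1, 0, 1, 0, 0, 0], [-1, -2, -1,
    0, 0, 0, 1, 0], [-1, -1, -1, 0, 0, 1, 0, 0], [-1, -1, -1, 0, 0, 0, 0, 0], [0, 0, 0, 1, 1, 1,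
    1, 1], [0, 0, 0, 0, 0, 0, 0, -1]], [[0, 1, 1, 0, 0, -2, 0, 0], [0, -1, 0, 0, 0, 1, 0, 0]], 1⟩,
  ⟨6, [1, -1], [0, 1, 2, 3, 4, 5, 6, 7], 5, [[1, 1, 1, -1, 0, 0, -1, 0], [1, 2, 1, -1, 0, -1, 0,
    -1], [1, 2, 2, -1, -1, 0, -1, -1], [2, 3, 2, -1, -1, -1, -1, -1], [1, 2, 2, -1, 0, -1, -1,
    -1], [1, 2, 1, -1, 0, 0, -1, -1], [1, 1, 1, -1, 0, 0, 0, -1], [0, 1, 1, -1, 0, 0, 0, 0]], [[0,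
    0, -1, 0, 0, 0, 0, 1], [1, 1, 1, 0, -1, 0, 1, 0], [1, 0, 0, 0, -2, 0, 0, 0], [2, 0, 0, 0, -2,
    0, 1, 0], [1, 0, 0, 0, -2, 1, 0, 1], [1, 0, 0, 0, -1, 0, 1, 0], [0, 1, 0, 1, -1, 0, 1, 0], [1,
    0, 1, -1, -1, 1, 0, 0]], [[0, 0, -1, 2, 0, -2, 0, 0], [-1, 1, 0, -1, 1, 1, -1, -1], [0, 0, -1,
    1, 0, -1, 0, 0], [0, 0, 0, -1, 0, 2, 0, 0]], 1⟩,
  ⟨7, [1, 1, 1, 1, 1, 1], [6, 7, 4, 5, 2, 3], 1, [[1, 0, 0, 0, 0, 0, 0, 0], [0, 1, 0, 0, 0, 0, 0,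
    0], [1, 1, 0, -1, 1, 0, 0, 0], [0, 1, 1, -1, 1, 0, 0, 0], [0, 1, 1, -1, 1, -1, 1, 0], [0, 0,
    0, 0, 1, -1, 1, 0], [0, 0, 0, 0, 1, -1, 1, -1], [0, 0, 0, 0, 0, 0, 1, -1]], [[0, 0, 0, 0, 0,
    0], [0, 0, 0, 0, 0, 0], [-2, -1, -1, -1, -1, -1], [-1, 0, 0, 0, 0, 1], [0, -1, 0, 0, 0, 1],
    [0, -1, 0, 0, 1, 0], [0, 0, -1, 0, 1, 0], [0, 0, -1, 1, 0, 0]], [[0, 0, -1, -5, 4, -3, 2,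
    -1]], 7⟩,
  ⟨8, [1, 0, 0, 0], [6, 7, 5, 3, 4, 1, 3, 0, 2, 1], 3, [[0, -1, -1, 1, 0, 0, 1, 0], [1, -1, -1, 1,
    -1, 1, 1, 0], [1, -1, -2, 1, 0, 1, 1, 0], [2, -2, -3, 2, -1, 2, 2, -1], [2, -1, -3, 2, -1, 1,
    2, -1], [2, -1, -3, 2, -1, 1, 1, 0], [1, 0, -2, 1, -1, 1, 1, 0], [0, 0, -1, 1, -1, 1, 0, 0]],
    [[0, -1, 0, 0, 1, 0, 1, 0], [-1, 0, 0, 0, 0, 1, 1, 0], [-1, -1, 0, 0, 1, 1, 1, 0], [-2, -1,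
    -1, 0, 1, 2, 1, 0], [-1, -1, -1, 0, 1, 2, 1, 0], [-1, -1, 0, 0, 0, 1, 1, 0], [0, 0, 0, 0, 0,
    1, 1, 1], [0, 0, 0, 1, 0, 0, 0, 1]], [[0, 0, 0, -1, 1, 0, 0, 0], [0, 0, 1, 0, 0, -1, 0, 0]],
    1⟩,
  ⟨9, [1, 0, 0, 1, 0, 0], [4, 5, 3, 4, 1, 3, 0, 2], 1, [[0, 0, -1, 1, 0, 0, 0, 0], [1, 0, -1, 0,
    1, 0, 0, 0], [1, 0, -1, 1, 0, 0, 0, 0], [2, 0, -2, 1, 0, 1, 0, 0], [2, 0, -2, 1, 0, 0, 1, 0],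
    [1, 1, -1, 0, 0, 0, 1, 0], [0, 0, 0, 0, 0, 0, 1, 0], [0, 0, 0, 0, 0, 0, 0, 1]], [[0, 1, 0, -1,
    0, 0], [2, 1, -1, 0, 1, 0], [1, 1, -1, -1, 0, 0], [1, 1, 0, -1, -1, 0], [1, 2, 0, -1, 0, 1],
    [1, 0, -1, 1, 0, -1], [0, 0, 0, 0, 0, 0], [0, 0, 0, 0, 0, 0]], [[-1, 2, -1, 2, -1, -1, 0, 0]],
    3⟩,
  ⟨10, [1, -1, 1, -1], [0, 1, 2, 3, 4, 5, 6, 7], 3, [[1, 1, 0, 0, 0, -1, 0, 0], [0, 1, 1, 0, 0,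
    -1, 0, -1], [1, 1, 1, 0, 0, -1, -1, 0], [1, 2, 1, 0, 0, -1, -1, -1], [1, 1, 1, 0, 0, -1, 0,
    -1], [0, 1, 1, 0, 0, -1, 0, 0], [0, 0, 0, 1, 0, -1, 0, 0], [0, 0, 0, 0, 1, -1, 0, 0]], [[0, 0,
    0, 0, 0, 0, 0, 1], [0, -1, 0, 0, 0, 1, -1, 0], [0, 0, -1, 0, 1, 0, 1, 0], [-1, 0, -1, 0, 1, 0,
    0, 0], [0, -1, 0, 0, 0, 1, 0, 0], [0, -1, 0, 0, 1, 0, 0, 0], [0, 0, -1, 1, 0, 0, 0, 0], [0, 0,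
    0, 0, 0, 1, -1, 1]], [[0, 1, 1, -1, -1, 0, 0, 0], [-1, -1, 0, 0, 0, 1, 0, 1]], 1⟩,
  ⟨12, [1, 0, -1, 0], [6, 7, 5, 3, 4, 1, 3, 0, 2, 1], 2, [[1, 0, -1, 0, 0, 1, 0, 0], [0, -1, -1,
    1, 0, 1, 0, 0], [1, 0, -2, 1, 0, 1, 0, 0], [1, -1, -3, 2, 0, 1, 1, 0], [1, -1, -2, 2, -1, 1,
    1, 0], [1, -1, -2, 2, -1, 1, 1, -1], [1, -1, -2, 2, -1, 1, 0, 0], [1, -1, -1, 1, 0, 0, 0, 0]],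
    [[0, 0, 0, 0, 1, 0, 0, 0], [1, 1, 0, 0, 1, -1, -1, 1], [1, 1, 0, 0, 1, -1, 0, 0], [1, 2, 1, 0,
    1, -1, -1, 0], [1, 1, 1, 0, 0, 0, 0, -1], [1, 1, 0, 0, 0, 0, 0, 0], [1, 0, 0, 1, 1, -1, 0, 0],
    [0, 0, 0, 1, 1, 0, -1, 0]], [[0, 1, 0, -1, 1, 0, 0, 0], [1, 0, 0, 0, 0, 0, 0, 0]], 1⟩,
  ⟨14, [1, -1, 1, -1, 1, -1], [6, 5, 3, 4, 1, 3, 0, 2, 1], 1, [[0, 0, -1, 1, 0, 0, 0, 0], [1, 0,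
    -1, 0, 1, 0, 0, 0], [1, 0, -1, 1, 0, 0, 0, 0], [2, 0, -2, 1, 0, 1, 0, 0], [1, -1, -1, 1, 0, 1,
    0, 0], [1, -1, -1, 1, 0, 0, 1, 0], [1, -1, -1, 1, 0, 0, 0, 1], [0, 0, 0, 0, 0, 0, 0, 1]], [[0,
    1, 0, 0, 0, 0], [0, 1, 0, 1, -1, 0], [1, 1, 0, 0, 0, 0], [1, 1, 1, 0, 0, 0], [1, 0, 1, 0, 1,
    -1], [1, 0, 0, 1, 0, 0], [0, 1, -1, 1, 0, 0], [0, 0, 0, 0, 0, 0]], [[-1, 0, 1, 0, 0, 0, 0,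
    0]], 1⟩,
  ⟨15, [1, -1, 0, 1, -1, 1, 0, -1], [0, 1, 2, 3, 4, 5, 6, 7], 2, [[0, 0, 1, 0, 0, 0, -1, 0], [1,
    1, 0, 0, 0, 0, -1, 0], [0, 1, 1, 0, 0, 0, -1, -1], [1, 1, 1, 0, 0, 0, -1, -1], [0, 1, 1, 0, 0,
    0, -1, 0], [0, 0, 0, 1, 0, 0, -1, 0], [0, 0, 0, 0, 1, 0, -1, 0], [0, 0, 0, 0, 0, 1, -1, 0]],
    [[-1, 1, 0, -1, 0, 0, 0, 0], [0, 0, -1, 0, 0, 0, 0, 0], [-1, 0, 0, 0, -1, 0, 0, 0], [-1, 0, 0,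
    -1, 0, 0, -1, 1], [-1, 0, 0, -1, 0, 0, 0, 0], [-1, 1, -1, 0, 0, -1, 1, 0], [-1, 1, -1, 0, 0,
    0, 0, 0], [0, 0, 0, 0, -1, 1, 0, 0]], [[1, 1, 0, 0, -1, 0, -1, 0]], 1⟩,
  ⟨18, [1, 0, 0, -1, 0, 0], [6, 1, 3, 4, 5, 2, 0], 1, [[-1, 0, 1, 0, 0, 0, 0, 0], [-1, 0, 0, 1, 0,
    -1, 1, 0], [-1, 0, 0, 1, 0, 0, 0, 0], [-1, 1, 0, 1, 0, -1, 1, 0], [0, 0, 0, 1, 0, -1, 1, 0],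
    [0, 0, 0, 0, 1, -1, 1, 0], [0, 0, 0, 0, 1, -1, 0, 1], [0, 0, 0, 0, 0, 0, 0, 1]], [[-2, 1, 0,
    1, 0, -1], [-1, 0, 0, 0, 1, -1], [-1, -1, 1, 0, 1, -1], [-1, 0, -1, 1, 0, 0], [0, 0, -1, 0, 0,
    1], [0, 0, -1, 0, 1, 0], [0, 0, 0, -1, 1, 0], [0, 0, 0, 0, 0, 0]], [[0, -1, 0, 0, -1, 1, 0,
    0]], 1⟩,
  ⟨20, [1, 0, -1, 0, 1, 0, -1, 0], [7, 1, 3, 4, 5, 6, 4, 5, 2, 3, 4, 0], 1, [[-1, 0, 1, 0, 0, 0,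
    0, 0], [-1, 1, 1, 0, -1, 1, -1, 1], [-1, 1, 1, 0, -1, 1, 0, 0], [-1, 2, 1, 0, -1, 1, -1, 1],
    [0, 1, 1, 0, -1, 1, -1, 1], [0, 1, 1, 0, -1, 0, 0, 1], [0, 0, 0, 1, -1, 0, 0, 1], [0, 0, 0, 1,
    -1, 0, 0, 0]], [[0, 0, 0, 0, 0, 1, 0, 0], [0, 0, -1, 0, 1, 1, 0, 0], [0, 0, 0, 0, 0, 1, 1, 0],
    [0, -1, -1, 1, 2, 1, 0, 0], [0, 0, -1, 0, 2, 1, 0, 0], [0, 0, 0, 0, 1, 0, 0, 1], [-1, 0, 1, 1,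
    0, -1, 0, 1], [-1, 0, 1, 0, 0, 0, 0, 0]], [[1, -2, 0, 0, 1, 0, 0, -1]], 1⟩,
  ⟨24, [1, 0, 0, 0, -1, 0, 0, 0], [6, 7, 5, 3, 4, 1, 3, 0, 2, 1], 1, [[0, 0, -1, 1, 0, 0, 0, 0],
    [1, 0, -1, 0, 1, 0, 0, 0], [1, 0, -1, 1, 0, 0, 0, 0], [2, 0, -2, 1, 0, 1, 0, 0], [1, -1, -1,
    1, 0, 1, 0, 0], [1, -1, -1, 1, 0, 0, 1, 0], [1, -1, -1, 1, 0, 0, 1, -1], [0, 0, 0, 0, 0, 0, 1,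
    -1]], [[0, -1, 0, -1, 0, 0, 0, 0], [-1, 0, -1, -1, 0, 0, 0, 0], [-1, -1, -1, -1, 0, 0, 0, 0],
    [-1, -1, -2, -1, -1, 0, 0, 0], [-1, -1, -1, -1, -1, 0, 0, 0], [-1, 0, -1, -1, 0, -1, 0, 0],
    [-1, 0, 0, -1, 0, 0, -1, 0], [0, 0, 0, -1, 0, 0, -1, 1]], [[1, 0, -1, 1, -1, 0, 0, 0]], 1⟩,
  ⟨30, [1, 1, 0, -1, -1, -1, 0, 1], [0, 1, 2, 3, 4, 5, 6, 7], 1, [[0, 1, 0, 0, 0, 0, 0, -1], [0,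
    0, 1, 0, 0, 0, 0, -1], [1, 1, 0, 0, 0, 0, 0, -1], [0, 1, 1, 0, 0, 0, 0, -1], [0, 0, 0, 1, 0,
    0, 0, -1], [0, 0, 0, 0, 1, 0, 0, -1], [0, 0, 0, 0, 0, 1, 0, -1], [0, 0, 0, 0, 0, 0, 1, -1]],
    [[1, 0, 0, 0, 0, 0, 1, 0], [1, 1, 0, 0, 0, 0, 0, 1], [0, 0, 1, 1, 1, 1, 0, -1], [1, 1, 1, 1,
    1, 0, 0, 0], [1, 1, 1, 1, 0, 0, 0, 0], [1, 1, 1, 0, 0, 0, 0, 0], [1, 1, 0, 0, 0, 0, 0, 0], [1,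
    0, 0, 0, 0, 0, 0, 0]], [[0, 0, 0, 0, 0, 0, 0, 1]], 1⟩]

theorem hcE8_ok : (∀ i : Fin chevE8.rank, (([[2, 0, -1, 0, 0, 0, 0, 0], [0, 2, 0, -1, 0, 0, 0, 0], [-1, 0, 2, -1, 0, 0, 0, 0], [0, -1, -1, 2, -1, 0, 0, 0], [0, 0, 0, -1, 2, -1, 0, 0], [0, 0, 0, 0, -1, 2, -1, 0], [0, 0, 0, 0, 0, -1, 2, -1], [0, 0, 0, 0, 0, 0, -1, 2]] : List (List ℤ)).getD i []).length = chevE8.rank ∧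
    ∀ j : Fin chevE8.rank, toM chevE8.rank chevE8.rank [[2, 0, -1, 0, 0, 0, 0, 0], [0, 2, 0, -1, 0, 0, 0, 0], [-1, 0, 2, -1, 0, 0, 0, 0], [0, -1, -1, 2, -1, 0, 0, 0], [0, 0, 0, -1, 2, -1, 0, 0], [0, 0, 0, 0, -1, 2, -1, 0], [0, 0, 0, 0, 0, -1, 2, -1], [0, 0, 0, 0, 0, 0, -1, 2]] i j =
      toM chevE8.rank chevE8.rank cartanE8 j i) ∧ 2 ∣ [2, 8, 12, 14, 18, 20, 24, 30].prod ∧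
    (∀ H ∈ hcE8, H.ok chevE8.rank [[2, 0, -1, 0, 0, 0, 0, 0], [0, 2, 0, -1, 0, 0, 0, 0], [-1, 0, 2, -1, 0, 0, 0, 0], [0, -1, -1, 2, -1, 0, 0, 0], [0, 0, 0, -1, 2, -1, 0, 0], [0, 0, 0, 0, -1, 2, -1, 0], [0, 0, 0, 0, 0, -1, 2, -1], [0, 0, 0, 0, 0, 0, -1, 2]] [2, 8, 12, 14, 18, 20, 24, 30]) ∧
      ∀ e ∈ [2, 8, 12, 14, 18, 20, 24, 30], ∀ d ∈ e.divisors, ∃ H ∈ hcE8, H.d = d := by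
  decide +kernel

end Cfsg.Lib.Chev
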