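import Cfsg.Agent.Lib.Chev.Rebase
import Cfsg.Agent.Lib.Chev.ClassCount

/-!
Involutions of F₄ and E₈ in odd characteristic.
-/

namespace Cfsg.Lib.Chev

open Finset RootSys PreSys Cfsg.Lib.Alg Cfsg.Lie ChevSys

section

variable {ι Φ : Type} [Fintype ι] [DecidableEq ι] [Fintype Φ] {R : RootSys ι Φ} {T : ChevTab R}
  {k : Type*} [Field k] {G : Type*} [Group G]

theorem ChevSys.Alg.exists_isConj_fin {C : ChevSys R k G} {p : ℕ} {φ : MulAut G}
    (h : C.Alg T p φ) [Fact p.Prime] [CharP k p] [IsAlgClosed k] {n : ℕ} (hn : 0 < n)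
    {F₀ : Type*} [Field F₀] [Finite F₀] (j : F₀ →+* k) (hF : Nat.card F₀ = p ^ n) {m : ℕ}
    (hm : m ∣ p ^ n - 1) {x : fix (φ ^ n)} (hx : x ^ m = 1) :
    ∃ c : ι → F₀ˣ, c ^ m = 1 ∧ IsConj x ((h.fin_hMul j hF).torus c) := by
  have h0 : 1 ≤ p ^ n := Nat.one_le_pow _ _ (Fact.out : p.Prime).pos
  have hx' : (x : G) ^ m = 1 := congrArg Subtype.val hx
  have h1 := h.cj_of_coprime (s := x) (((Nat.coprime_pow_right_iff hn _ _).1
    ((Nat.coprime_self_sub_left h0).2 (Nat.coprime_one_left _))).coprime_dvd_left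
      ((orderOf_dvd_of_pow_eq_one hx').trans hm))
  obtain ⟨a, c, hc⟩ := id h1
  have h2 : c ^ m = 1 := h.inj (by simpa [hc, ← map_pow] using hx')
  have h3 : ∀ i, ∃ d : F₀ˣ, uMap j d = c i := fun i => by
    obtain ⟨d, hd⟩ := (pow_card_eq_iff j (c i)).1 (by
      obtain ⟨e, he⟩ := hm
      rw [hF, ← Nat.sub_add_cancel h0, pow_succ, he, pow_mul, ← Units.val_pow_eq_pow_val,
        show c i ^ m = 1 from congrFun h2 i]
      simp)
    exact ⟨Units.mk0 d (by rintro rfl; exact (c i).ne_zero (by simpa using hd.symm)), Units.ext hd⟩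
  choose d hd using h3
  refine ⟨d, funext fun i => Units.map_injective (f := (j : F₀ →* k)) j.injective ?_,
    h.isConj_fix (isSt_pow φ hn) h1 ?_⟩
  · rw [Pi.pow_apply, map_pow, hd i, Pi.one_apply, map_one]
    exact congrFun h2 i
  · rw [h.coe_fin_torus, hc, funext hd]
    exact (isConj_iff.2 ⟨a, rfl⟩).symm

omit [Fintype Φ] in
theorem RootSys.chr_mAct_sref (c : ι → kˣ) (i j : ι) : R.chr (mAct (R.wM (R.sref i)) c)
    (R.simple j) = R.chr c (R.simple j) / R.chr c (R.simple i) ^ R.A i j := by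
  rw [← refl_simple, mAct_refl, div_eq_mul_inv, chr_mul, chr_inv, chr_co, pair_simple_simple,
    div_eq_mul_inv]

omit [Fintype Φ] in
theorem RootSys.eq_of_chr (h0 : R.kerChr k = ⊥) {c c' : ι → kˣ}
    (h : ∀ j, R.chr c (R.simple j) = R.chr c' (R.simple j)) : c = c' :=
  mul_inv_eq_one.1 (h0.le (mem_kerChr.2 fun j => by
    rw [← chr_simple, chr_mul, chr_inv, h, mul_inv_cancel]))

omit [Fintype Φ] in
theorem RootSys.exists_chr [Finite k] (h0 : R.kerChr k = ⊥) (χ : ι → kˣ) :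
    ∃ c : ι → kˣ, ∀ j, R.chr c (R.simple j) = χ j :=
  (Finite.surjective_of_injective (f := fun (c : ι → kˣ) j => R.chr c (R.simple j))
    (fun _ _ e => eq_of_chr h0 (congrFun e)) χ).imp fun _ => congrFun

end

/-- A simple reflection on sign characters. -/
def stp2 (M : List ℕ) (m i : ℕ) : ℕ := cond (m.testBit i) (m ^^^ M.getD i 0) m

/-- A descent to a representative. -/
noncomputable def go2 (n : ℕ) (M : List ℕ) (T : ℕ) (L : List ℕ) (f : ℕ) : ℕ → Bool :=
  Nat.rec (fun _ => false) (fun _ ih m =>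
    L.contains m || Nat.blt (t8 T m) n && ih (stp2 M m (t8 T m))) f

section

variable {n : ℕ} {Φ : Type} {R : RootSys (Fin n) Φ} {F : Type*} [Field F]

variable (R) in
/-- The sign character with a given mask. -/
def RootSys.Sgn (c : Fin n → Fˣ) (m : ℕ) : Prop :=
  ∀ j, R.chr c (R.simple j) = if m.testBit j then -1 else 1

theorem RootSys.Sgn.exists_W {M : List ℕ}
    (hM : ∀ i j : Fin n, (M.getD i 0).testBit j ↔ Odd (R.A i j)) {T : ℕ} {L : List ℕ} {f m : ℕ}
    {c : Fin n → Fˣ} (h : R.Sgn c m) (H : go2 n M T L f m = true) :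
    ∃ w ∈ R.W, ∃ m' ∈ L, R.Sgn (mAct (R.wM w) c) m' := by
  induction f generalizing m c with
  | zero => cases H
  | succ f ih =>
    simp only [go2, Bool.or_eq_true, Bool.and_eq_true, Nat.blt_eq, List.contains_iff_mem] at H
    rcases H with H | ⟨hi, H⟩
    · exact ⟨1, one_mem _, m, H, by simpa [wM_one] using h⟩
    obtain ⟨w, hw, m', hm', H⟩ := ih (c := mAct (R.wM (R.sref ⟨_, hi⟩)) c) (fun j => by
      have := hM ⟨_, hi⟩ j
      rw [chr_mAct_sref, h, h, stp2]
      cases h1 : m.testBit (t8 T m)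
      · simp
      rw [cond_true, Nat.testBit_xor]
      rcases Int.even_or_odd (R.A ⟨_, hi⟩ j) with h2 | h2
      · rw [Bool.eq_false_iff.2 (mt this.1 (Int.not_odd_iff_even.2 h2))]
        simp [h2.neg_one_zpow]
      · rw [this.2 h2]
        cases m.testBit j <;> simp [h2.neg_one_zpow]) H
    exact ⟨w * R.sref _, mul_mem hw (sref_mem_W _ _), m', hm', by
      rwa [(isAut_of_mem_W hw).wM_mul, mAct_mul]⟩

theorem RootSys.exists_sgn {c : Fin n → Fˣ} (h : c ^ 2 = 1) : ∃ m < 2 ^ n, R.Sgn c m := by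
  classical
  refine ⟨_, Nat.ofBits_lt_two_pow fun j => decide (R.chr c (R.simple j) = -1), fun j => ?_⟩
  have h1 : R.chr c (R.simple j) ^ 2 = 1 := by rw [← chr_pow, h, chr_one]
  simp only [Nat.testBit_ofBits_lt _ _ j.2, decide_eq_true_eq]
  split_ifs with h2
  exacts [h2, Units.ext ((sq_eq_one_iff.1 (congrArg Units.val h1)).resolve_right
    fun e => h2 (Units.ext e))]

theorem RootSys.Sgn.chr {c : Fin n → Fˣ} {k : Fin n} (h : R.Sgn c (2 ^ k.val)) (r : Φ) :
    R.chr c r = (-1) ^ R.α r k := by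
  rw [chr_eq_prod, prod_eq_single k (fun j _ hj => ?_) (by simp), h]
  · simp
  · simp [h j, Nat.testBit_two_pow, Fin.val_inj, hj.symm]

end

variable {D : ChevalleyDatum} {c : Cert} (h : Checked D c) (hD : D ∈ types)
  {F : Type*} [Field F] [Fintype F] (halg : ∀ (p : ℕ) [Fact p.Prime]
    [CharP (AlgebraicClosure F) p], (∀ t : AlgebraicClosure F, ∃ n, 0 < n ∧ t ^ p ^ n = t) →
      ∃ φ, (h.stSys (AlgebraicClosure F) hD).Alg h.T p φ) (h0 : h.R.kerChr F = ⊥)
include halg h0

theorem Checked.exists_isConj_torus {m : ℕ} (hm : m ∣ Fintype.card F - 1) {u : D.group F}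
    (hu : u ^ m = 1) : ∃ c, c ^ m = 1 ∧ IsConj u ((h.gsys_adjoint F).hMul.torus c) := by
  obtain ⟨p, hp⟩ := CharP.exists F
  have : Fact p.Prime := ⟨CharP.char_is_prime F p⟩
  obtain ⟨n, hn, hF⟩ := exists_card_eq_pow (F := F) p
  obtain ⟨φ, hφ⟩ := halg p (exists_pow_pow_eq F p)
  obtain ⟨e, he⟩ := hφ.exists_equiv (algebraMap F _) hF (h.noA1 hD) (h.gsys_strongComm F)
    (h.gsys_faithful F) (h.gsys_adjoint F) (h.gsys_grp F) h0
  obtain ⟨c, h1, h2⟩ := hφ.exists_isConj_fin hn (algebraMap F _) hF (m := m)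
    (by rwa [← hF, Nat.card_eq_fintype_card]) (x := e.symm u) (by rw [← map_pow, hu, map_one])
  refine ⟨c, h1, ?_⟩
  simpa [← (hφ.fin_hMul _ hF).map_torus (h.gsys_adjoint F).hMul (φ := e.toMonoidHom) he] using
    e.toMonoidHom.map_isConj h2

theorem Checked.invol_odd (hF : Odd (Fintype.card F)) {M : List ℕ}
    (hM : ∀ i j : Fin D.rank, (M.getD i 0).testBit j ↔ Odd (h.R.A i j)) {T f : ℕ}
    {k₁ k₂ : Fin D.rank}
    (H : ∀ m < 2 ^ D.rank, go2 D.rank M T [0, 2 ^ k₁.val, 2 ^ k₂.val] f m = true)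
    {γ₁ γ₂ : Fin D.nroots} (e₁ : h.R.α γ₁ k₁ = 2) (e₂ : h.R.α γ₂ k₂ = 2)
    (B₁ : h.R.Base {r | h.R.α γ₁ k₁ ∣ h.R.α r k₁} (Fin D.rank))
    (B₂ : h.R.Base {r | h.R.α γ₂ k₂ ∣ h.R.α r k₂} (Fin D.rank)) {N₁ N₂ : ℕ}
    (h₁ : Fintype.card {r | h.R.α γ₁ k₁ ∣ h.R.α r k₁} = N₁)
    (h₂ : Fintype.card {r | h.R.α γ₂ k₂ ∣ h.R.α r k₂} = N₂) (hN : N₁ ≠ N₂) :
    ∃ s t : D.group F, orderOf s = 2 ∧ orderOf t = 2 ∧ ¬ IsConj s t ∧
      (∀ u, orderOf u = 2 → IsConj u s ∨ IsConj u t) ∧
      Nat.card (Subgroup.centralizer {s}) = Fintype.card F ^ (N₁ / 2) *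
        ((Fintype.card F - 1) ^ D.rank * B₁.sys.poin Set.univ (Fintype.card F)) ∧
      Nat.card (Subgroup.centralizer {t}) = Fintype.card F ^ (N₂ / 2) *
        ((Fintype.card F - 1) ^ D.rank * B₂.sys.poin Set.univ (Fintype.card F)) := by
  have hf := h.gsys_faithful F
  have hm := (h.gsys_adjoint F).hMul
  have hi : Function.Injective hm.torus := by
    rw [← MonoidHom.ker_eq_bot_iff, (h.gsys_adjoint F).ker_torus hf, h0]
  have h1 : (-1 : Fˣ) ≠ 1 := fun e => by
    have := Ring.neg_one_ne_one_of_char_ne_two (R := F) fun e =>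
      Nat.not_even_iff_odd.2 hF (Nat.even_iff.2 (FiniteField.even_card_of_char_two e))
    exact this (congrArg Units.val e)
  have h2 : ∀ (k : Fin D.rank) γ, h.R.α γ k = 2 → ∃ c, h.R.Sgn c (2 ^ k.val) ∧
      orderOf (hm.torus c) = 2 ∧ {r | h.R.chr c r = 1} = {r | h.R.α γ k ∣ h.R.α r k} := by
    intro k γ e
    obtain ⟨c, hc⟩ := exists_chr h0 fun j => if (2 ^ k.val).testBit j then -1 else 1
    refine ⟨c, hc, orderOf_eq_prime ?_ fun e => h1 ?_, Set.ext fun r => ?_⟩
    · rw [← map_pow, eq_of_chr h0 (c := c ^ 2) (c' := 1) fun j => ?_, map_one]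
      rw [chr_pow, hc, chr_one]
      split_ifs <;> simp
    · simpa [hi (e.trans (map_one _).symm), chr_one] using (hc k).symm
    · rcases Int.even_or_odd (h.R.α r k) with h2 | h2
      · simp [Sgn.chr hc, e, h2.neg_one_zpow, h2.two_dvd]
      · simp [Sgn.chr hc, e, h2.neg_one_zpow, h1, ← even_iff_two_dvd, h2]
  obtain ⟨c₁, a₁, b₁, d₁⟩ := h2 _ _ e₁
  obtain ⟨c₂, a₂, b₂, d₂⟩ := h2 _ _ e₂
  have : Finite (D.group F) := inferInstance
  refine ⟨_, _, b₁, b₂, fun e => hN ?_, fun u hu => ?_, ?_, ?_⟩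
  · obtain ⟨g, hg⟩ := isConj_iff.1 e
    obtain ⟨w, hw, rfl⟩ := hf.exists_mAct_of_conj hm hi ((h.gsys_grp F).ge trivial) hg
    rw [← h₁, ← h₂]
    exact Fintype.card_congr (w.subtypeEquiv fun r => by
      rw [← d₁, ← d₂, Set.mem_ofPred, Set.mem_ofPred, (isAut_of_mem_W hw).chr_mAct])
  · obtain ⟨c, h3, h4⟩ := h.exists_isConj_torus hD halg h0 (m := 2)
      (Nat.Odd.sub_odd hF odd_one).two_dvd (hu ▸ pow_orderOf_eq_one u)
    obtain ⟨m, h5, h6⟩ := exists_sgn (R := h.R) h3
    obtain ⟨w, hw, m', h7, h8⟩ := h6.exists_W hM (H m h5)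
    obtain ⟨g, hg⟩ := (h.gsys F).exists_nw_of_mem_W hw
    have h9 := h4.trans (isConj_iff.2 ⟨g, hm.nw_conj_torus hg c⟩)
    simp only [List.mem_cons, List.not_mem_nil, or_false] at h7
    rcases h7 with rfl | rfl | rfl
    · rw [eq_of_chr h0 (c := mAct _ c) (c' := 1) fun j => by simp [h8 j, chr_one], map_one,
        isConj_one_left] at h9
      simp [h9] at hu
    · exact .inl (eq_of_chr h0 (fun j => (h8 j).trans (a₁ j).symm) ▸ h9)
    · exact .inr (eq_of_chr h0 (fun j => (h8 j).trans (a₂ j).symm) ▸ h9)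
  · simpa [h₁] using hf.card_centralizer B₁ (h.gsys_grp F) hm hi d₁
  · simpa [h₂] using hf.card_centralizer B₂ (h.gsys_grp F) hm hi d₂

omit halg h0

/-- The Cartan matrix of a subsystem. -/
def cartanB4 : List (List ℤ) := [[2, 0, 0, -1], [0, 2, -2, 0], [0, -1, 2, -1], [-1, 0, -1, 2]]

/-- A chain of orbits. -/
def orbitsB4 : List (ℕ × ℕ × List (ℕ × ℕ)) := [
  (0, 34953, [(34953, 0), (39047, 1), (31112, 2), (34712, 3), (35192, 4), (38792, 5), (30857, 6),
    (34951, 7)]),
  (3, 39048, [(39048, 0), (31113, 1), (34713, 2), (35193, 3), (38793, 4), (30858, 5)]),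
  (1, 34968, [(34968, 0), (35448, 1), (42648, 2), (43128, 3)]),
  (2, 35208, [(35208, 0), (38808, 1)])]

theorem orbitsB4_chk : chainChk 4 cartanB4 [-4094, -480, -3600, 7935] orbitsB4 = true ∧
    (∀ i < 4, i ∈ orbitsB4.map Prod.fst) ∧
    (orbitsB4.map fun s => s.2.2.map Prod.snd) = [[0, 1, 2, 3, 4, 5, 6, 7], [0, 1, 2, 3, 4, 5], [0,
    1, 2, 3], [0, 1]] := by
  decide +kernel

/-- The Cartan matrix of a subsystem. -/
def cartanA1C3 : List (List ℤ) := [[2, -1, 0, 0], [-1, 2, -2, 0], [0, -1, 2, 0], [0, 0, 0, 2]]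

/-- A chain of orbits. -/
def orbitsA1C3 : List (ℕ × ℕ × List (ℕ × ℕ)) := [
  (3, 39048, [(39048, 0), (30856, 1)]),
  (0, 34953, [(34953, 0), (34967, 1), (35448, 2), (34456, 3), (34937, 4), (34951, 5)]),
  (1, 34968, [(34968, 0), (35449, 1), (34457, 2), (34938, 3)]),
  (2, 35208, [(35208, 0), (34712, 1)])]

theorem orbitsA1C3_chk : chainChk 4 cartanA1C3 [-14, -481, 496, 8192] orbitsA1C3 = true ∧
    (∀ i < 4, i ∈ orbitsA1C3.map Prod.fst) ∧
    (orbitsA1C3.map fun s => s.2.2.map Prod.snd) = [[0, 1], [0, 1, 2, 3, 4, 5], [0, 1, 2, 3], [0,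
    1]] := by
  decide +kernel

/-- The Cartan matrix of a subsystem. -/
def cartanD8 : List (List ℤ) := [[2, 0, 0, 0, 0, 0, 0, -1], [0, 2, 0, -1, 0, 0, 0, 0], [0, 0, 2, -1,
    0, 0, 0, 0], [0, -1, -1, 2, -1, 0, 0, 0], [0, 0, 0, -1, 2, -1, 0, 0], [0, 0, 0, 0, -1, 2, -1,
    0], [0, 0, 0, 0, 0, -1, 2, -1], [-1, 0, 0, 0, 0, 0, -1, 2]]

/-- A chain of orbits. -/
def orbitsD8 : List (ℕ × ℕ × List (ℕ × ℕ)) := [
  (0, 2290649225, [(2290649225, 0), (2559084679, 1), (2038990984, 2), (2274920584, 3), (2289666184,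
    4), (2290587784, 5), (2290645400, 6), (2290649464, 7), (2290648984, 7), (2290653048, 8),
    (2290710664, 9), (2291632264, 10), (2306377864, 11), (2542307464, 12), (2022213769, 13),
    (2290649223, 14)]),
  (7, 2559084680, [(2559084680, 0), (2038990985, 1), (2274920585, 2), (2289666185, 3), (2290587785,
    4), (2290645401, 5), (2290649465, 6), (2290648985, 6), (2290653049, 7), (2290710665, 8),
    (2291632265, 9), (2306377865, 10), (2542307465, 11), (2022213770, 12)]),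
  (6, 2307426440, [(2307426440, 0), (2543356040, 1), (2558101640, 2), (2559023240, 3), (2559080856,
    4), (2559084920, 5), (2559084440, 5), (2559088504, 6), (2559146120, 7), (2560067720, 8),
    (2574813320, 9), (2810742920, 10)]),
  (5, 2291697800, [(2291697800, 0), (2306443400, 1), (2307365000, 2), (2307422616, 3), (2307426680,
    4), (2307426200, 4), (2307430264, 5), (2307487880, 6), (2308409480, 7), (2323155080, 8)]),
  (1, 2290649240, [(2290649240, 0), (2290653304, 1), (2290710920, 2), (2290714504, 3), (2291632520,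
    3), (2291636104, 4), (2291693720, 5), (2291697784, 6)]),
  (2, 2290649480, [(2290649480, 0), (2290653064, 1), (2290710680, 2), (2291632280, 3)]),
  (3, 2290653320, [(2290653320, 0), (2290710936, 1), (2291632536, 2)]),
  (4, 2290714760, [(2290714760, 0), (2291636360, 1)])]

theorem orbitsD8_chk : chainChk 8 cartanD8 [-268435454, -4064, -3584, -57616, -921600, -14745600,
    -235929600, 520093695] orbitsD8 = true ∧
    (∀ i < 8, i ∈ orbitsD8.map Prod.fst) ∧
    (orbitsD8.map fun s => s.2.2.map Prod.snd) = [[0, 1, 2, 3, 4, 5, 6, 7, 7, 8, 9, 10, 11, 12, 13,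
    14], [0, 1, 2, 3, 4, 5, 6, 6, 7, 8, 9, 10, 11, 12], [0, 1, 2, 3, 4, 5, 5, 6, 7, 8, 9, 10], [0,
    1, 2, 3, 4, 4, 5, 6, 7, 8], [0, 1, 2, 3, 3, 4, 5, 6], [0, 1, 2, 3], [0, 1, 2], [0, 1]] := by
  decide +kernel

/-- The Cartan matrix of a subsystem. -/
def cartanA1E7 : List (List ℤ) := [[2, 0, -1, 0, 0, 0, 0, 0], [0, 2, 0, -1, 0, 0, 0, 0], [-1, 0, 2,
    -1, 0, 0, 0, 0], [0, -1, -1, 2, -1, 0, 0, 0], [0, 0, 0, -1, 2, -1, 0, 0], [0, 0, 0, 0, -1, 2,
    -1, 0], [0, 0, 0, 0, 0, -1, 2, 0], [0, 0, 0, 0, 0, 0, 0, 2]]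

/-- A chain of orbits. -/
def orbitsA1E7 : List (ℕ × ℕ × List (ℕ × ℕ)) := [
  (7, 2559084680, [(2559084680, 0), (2022213768, 1)]),
  (6, 2307426440, [(2307426440, 0), (2274920584, 1), (2289666184, 2), (2290587784, 3), (2290645400,
    4), (2290649464, 5), (2290648985, 5), (2290653049, 6), (2290649239, 6), (2290653303, 7),
    (2290710665, 7), (2290710919, 8), (2291632265, 8), (2290714504, 9), (2291632519, 9),
    (2306377865, 9), (2291636104, 10), (2306378119, 10), (2273872009, 10), (2306381704, 11),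
    (2291693720, 11), (2273872263, 11), (2273875848, 12), (2306439320, 12), (2291697784, 12),
    (2273933464, 13), (2306443384, 13), (2307360920, 13), (2273937528, 14), (2274855064, 14),
    (2307364984, 14), (2274859128, 15), (2289600664, 15), (2307422600, 15), (2289604728, 16),
    (2274916744, 16), (2307426185, 16), (2289662344, 17), (2274920329, 17), (2307426439, 17),
    (2289665929, 18), (2290583944, 18), (2274920583, 18), (2289666183, 19), (2290587529, 19),
    (2290587783, 20), (2290645145, 20), (2290645399, 21), (2290649209, 21), (2290649463, 22),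
    (2290648984, 22), (2290653048, 23), (2290710664, 24), (2291632264, 25), (2306377864, 26),
    (2273872008, 27)]),
  (0, 2290649225, [(2290649225, 0), (2290649479, 1), (2290653064, 2), (2290710680, 3), (2290714744,
    4), (2291632280, 4), (2291636344, 5), (2306377880, 5), (2306381944, 6), (2291693960, 6),
    (2306439560, 7), (2291697545, 7), (2306443145, 8), (2307361160, 8), (2291697799, 8),
    (2306443399, 9), (2307364745, 9), (2307364999, 10), (2307422361, 10), (2307422615, 11),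
    (2307426425, 11), (2307426679, 12), (2307426200, 12), (2307430264, 13), (2307487880, 14),
    (2308409480, 15), (2323155080, 16)]),
  (5, 2291697800, [(2291697800, 0), (2306443400, 1), (2307365000, 2), (2307422616, 3), (2307426680,
    4), (2307426201, 4), (2307430265, 5), (2307487881, 6), (2308409481, 7), (2323155081, 8)]),
  (1, 2290649240, [(2290649240, 0), (2290653304, 1), (2290710920, 2), (2290714505, 3), (2291632520,
    3), (2291636105, 4), (2291693721, 5), (2291697785, 6)]),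
  (2, 2290649480, [(2290649480, 0), (2290653065, 1), (2290710681, 2), (2291632281, 3)]),
  (3, 2290653320, [(2290653320, 0), (2290710936, 1), (2291632536, 2)]),
  (4, 2290714760, [(2290714760, 0), (2291636360, 1)])]

theorem orbitsA1E7_chk : chainChk 8 cartanA1E7 [-254, -4064, -3585, -57616, -921600, -14745600,
    32505856, 536870912] orbitsA1E7 = true ∧
    (∀ i < 8, i ∈ orbitsA1E7.map Prod.fst) ∧
    (orbitsA1E7.map fun s => s.2.2.map Prod.snd) = [[0, 1], [0, 1, 2, 3, 4, 5, 5, 6, 6, 7, 7, 8, 8,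
    9, 9, 9, 10, 10, 10, 11, 11, 11, 12, 12, 12, 13, 13, 13, 14, 14, 14, 15, 15, 15, 16, 16, 16, 17,
    17, 17, 18, 18, 18, 19, 19, 20, 20, 21, 21, 22, 22, 23, 24, 25, 26, 27], [0, 1, 2, 3, 4, 4, 5,
    5, 6, 6, 7, 7, 8, 8, 8, 9, 9, 10, 10, 11, 11, 12, 12, 13, 14, 15, 16], [0, 1, 2, 3, 4, 4, 5, 6,
    7, 8], [0, 1, 2, 3, 3, 4, 5, 6], [0, 1, 2, 3], [0, 1, 2], [0, 1]] := by
  decide +kernel



theorem IsCartan.poin_eq {n : ℕ} {Φ : Type} [Fintype Φ] {R : RootSys (Fin n) Φ} {A : List (List ℤ)}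
    (hA : IsCartan R A) {B : List ℤ} {S : List (ℕ × ℕ × List (ℕ × ℕ))} {P : List (List ℕ)}
    (h : chainChk n A B S = true ∧ (∀ i < n, i ∈ S.map Prod.fst) ∧
      (S.map fun s => s.2.2.map Prod.snd) = P) {q a b : ℕ}
    (H : (q - 1) ^ n * (P.map fun l => (l.map (q ^ ·)).sum).prod = b) :
    q ^ a * ((q - 1) ^ n * R.poin Set.univ q) = q ^ a * b := by rw [hA.poin_univ h, H]

set_option maxRecDepth 4000 in
theorem invol_F4 (hF : Odd (Fintype.card F)) : ∃ s t : chevF4.group F, orderOf s = 2 ∧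
    orderOf t = 2 ∧ ¬ IsConj s t ∧ (∀ u, orderOf u = 2 → IsConj u s ∨ IsConj u t) ∧
    Nat.card (Subgroup.centralizer {s}) = Fintype.card F ^ 16 * ((Fintype.card F ^ 2 - 1) *
      (Fintype.card F ^ 4 - 1) * (Fintype.card F ^ 6 - 1) * (Fintype.card F ^ 8 - 1)) ∧
    Nat.card (Subgroup.centralizer {t}) = Fintype.card F ^ 10 * ((Fintype.card F ^ 2 - 1) ^ 2 *
      (Fintype.card F ^ 4 - 1) * (Fintype.card F ^ 6 - 1)) := by
  obtain ⟨s, t, h1, h2, h3, h4, h5, h6⟩ := checkedF4.invol_odd (by simp) (algF4 _)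
    (kerDataF4 _).kerChr_eq_bot hF (M := [2, 1, 10, 4]) (by decide +kernel) (f := 9)
    (T := 0x2010203030303000102000200010000) (k₁ := ⟨0, by decide⟩) (k₂ := ⟨3, by decide⟩)
    (by decide +kernel) (γ₁ := ⟨41, by decide⟩) (γ₂ := ⟨47, by decide⟩) (by decide +kernel)
    (by decide +kernel) (modBase _ _ _ (by decide +kernel) (by decide +kernel))
    (modBase _ _ _ (by decide +kernel) (by decide +kernel)) (N₁ := 32) (N₂ := 20)
    (by decide +kernel) (by decide +kernel) (by decide)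
  have hq : 0 < Fintype.card F := Fintype.card_pos
  refine ⟨s, t, h1, h2, h3, h4, h5.trans (IsCartan.poin_eq (A := cartanB4) (by
    unfold IsCartan; decide +kernel) orbitsB4_chk ?_), h6.trans (IsCartan.poin_eq (A := cartanA1C3)
      (by unfold IsCartan; decide +kernel) orbitsA1C3_chk ?_)⟩ <;>
  · simp only [List.map_cons, List.map_nil, List.sum_cons, List.sum_nil, List.prod_cons,
      List.prod_nil, show chevF4.rank = 4 from rfl]
    zify [hq, Nat.one_le_pow _ _ hq]
    ring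

set_option maxRecDepth 4000 in
theorem invol_E8 (hF : Odd (Fintype.card F)) : ∃ s t : chevE8.group F, orderOf s = 2 ∧
    orderOf t = 2 ∧ ¬ IsConj s t ∧ (∀ u, orderOf u = 2 → IsConj u s ∨ IsConj u t) ∧
    Nat.card (Subgroup.centralizer {s}) = Fintype.card F ^ 56 * ((Fintype.card F ^ 8 - 1) *
      ∏ i ∈ Finset.Icc 1 7, (Fintype.card F ^ (2 * i) - 1)) ∧
    Nat.card (Subgroup.centralizer {t}) = Fintype.card F ^ 64 * ((Fintype.card F ^ 2 - 1) ^ 2 *
      (Fintype.card F ^ 6 - 1) * (Fintype.card F ^ 8 - 1) * (Fintype.card F ^ 10 - 1) *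
        (Fintype.card F ^ 12 - 1) * (Fintype.card F ^ 14 - 1) * (Fintype.card F ^ 18 - 1)) := by
  obtain ⟨s, t, h1, h2, h3, h4, h5, h6⟩ := checkedE8.invol_odd (by simp) (algE8 _)
    (kerDataE8 _).kerChr_eq_bot hF (M := [4, 8, 9, 22, 40, 80, 160, 64]) (by decide +kernel)
    (f := 30) (T := 0x7070607070606060707070607060707060607060607070706060607060706050707070607060707070706070706060607070706070607070707060707060607050507050507070705050507050705040707050707050505070707050705070704040407040704030404070404070707030203070307030301020702010707000606060506050606060605060605050406060605060506060606050606050506060604060604040306060604060406060302060303060606010202060106000605050504050405050505040505040405050505030503050505050205050100050404030404030304040404020401040402030302000303030201000200010000)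
    (k₁ := ⟨0, by decide⟩) (k₂ := ⟨7, by decide⟩)
    (by decide +kernel) (γ₁ := ⟨226, by decide⟩) (γ₂ := ⟨239, by decide⟩) (by decide +kernel)
    (by decide +kernel) (modBase _ _ _ (by decide +kernel) (by decide +kernel))
    (modBase _ _ _ (by decide +kernel) (by decide +kernel)) (N₁ := 112) (N₂ := 128)
    (by decide +kernel) (by decide +kernel) (by decide)
  have hq : 0 < Fintype.card F := Fintype.card_pos
  refine ⟨s, t, h1, h2, h3, h4, h5.trans (IsCartan.poin_eq (A := cartanD8) (by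
    unfold IsCartan; decide +kernel) orbitsD8_chk ?_), h6.trans (IsCartan.poin_eq (A := cartanA1E7)
      (by unfold IsCartan; decide +kernel) orbitsA1E7_chk ?_)⟩ <;>
  · simp only [List.map_cons, List.map_nil, List.sum_cons, List.sum_nil, List.prod_cons,
      List.prod_nil, show chevE8.rank = 8 from rfl, show Icc 1 7 = {1, 2, 3, 4, 5, 6, 7} from rfl]
    try rw [prod_insert (by decide), prod_insert (by decide), prod_insert (by decide),
      prod_insert (by decide), prod_insert (by decide), prod_insert (by decide), prod_singleton]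
    zify [hq, Nat.one_le_pow _ _ hq]
    ring

end Cfsg.Lib.Chev
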