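import Cfsg.Agent.Lib.Chev.OverTwE

/-!
The points over the subfield form a maximal subgroup of ³D₄(q).
-/

set_option autoImplicit false
set_option maxRecDepth 100000

namespace Cfsg.Lib.Twisted

open Cfsg.Lie Cfsg.Lib.Chev Cfsg.Lib.Chev.RootSys Cfsg.Lib.Chev.PreSys Cfsg.Lib.Chev.ChevSys
  Cfsg.Lib.BN Equiv Twist

variable {K : Type*} [Field K]

theorem sw0 (r s : ℕ) (h : r < 24 ∧ s < 24 ∧ s ≠ r ∧ s ≠ chevD4.neg r ∧ chevD4.commTerms r s = [] := by
    decide +kernel) (t u : K) (g) : xN checkedD4 s u * (xN checkedD4 r t * g) =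
      xN checkedD4 r t * (xN checkedD4 s u * g) := by
  rw [← mul_assoc, xN_comm checkedD4 h]
  simp [mul_assoc]

theorem sw1 (r s k : ℕ) (c : ℤ) (h : r < 24 ∧ s < 24 ∧ s ≠ r ∧ s ≠ chevD4.neg r ∧
    chevD4.commTerms r s = [(k, c, 1, 1)] := by decide +kernel) (t u : K) (g) :
    xN checkedD4 s u * (xN checkedD4 r t * g) =
      xN checkedD4 r t * (xN checkedD4 s u * (xN checkedD4 k (c * -t * u) * g)) := by
  rw [← mul_assoc, xN_comm checkedD4 h]
  simp [mul_assoc]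

theorem swA (r : ℕ) (t u : K) (g) : xN checkedD4 r t * (xN checkedD4 r u * g) =
    xN checkedD4 r (t + u) * g := by rw [xN_add, mul_assoc]

set_option maxHeartbeats 1000000 in
theorem words_D4 (a b c d e f g h : K) :
    wd checkedD4 [(18, a), (13, b), (12, c)] * xN checkedD4 14 1 * 1 = xN checkedD4 14 1 *
      wd checkedD4 [(18, a), (13, b), (12, c)] * (wd checkedD4 [(19, -a), (16, b), (15, c)] *
      (wd checkedD4 [(17, -(b * c)), (20, a * c), (21, a * b)] * (xN checkedD4 22 (-(a * b * c)) *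
        (xN checkedD4 23 (2 * (a * b * c)) * 1)))) ∧
    wd checkedD4 [(19, a), (16, -b), (15, -c)] * wd checkedD4 [(17, d), (20, e), (21, f), (22, g), (23, h)] *
      wd checkedD4 [(18, 1), (13, 1), (12, 1)] = wd checkedD4 [(18, 1), (13, 1), (12, 1)] *
      (wd checkedD4 [(19, a), (16, -b), (15, -c)] * wd checkedD4 [(17, d), (20, e), (21, f), (22, g), (23, h)]) *
      wd checkedD4 [(17, b + c), (20, -a - c), (21, -a - b), (22, a + b + c + d - e - f),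
        (23, a * b + a * c + b * c)] := by
  simp only [wd_cons, wd_nil, mul_assoc, one_mul, swA,
    sw1 14 18 19 1, sw1 14 13 16 (-1), sw1 14 12 15 (-1), sw0 14 19, sw0 14 16, sw0 14 15,
    sw0 14 17, sw0 14 20, sw0 14 21, sw1 14 22 23 1, sw0 14 23, sw0 18 13, sw0 18 12, sw0 18 19,
    sw1 18 16 21 (-1), sw1 18 15 20 (-1), sw1 18 17 22 (-1), sw0 18 20, sw0 18 21, sw0 18 22,
    sw0 18 23, sw0 13 12, sw1 13 19 21 1, sw0 13 16, sw1 13 15 17 1, sw0 13 17, sw1 13 20 22 1,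
    sw0 13 21, sw0 13 22, sw0 13 23, sw1 12 19 20 1, sw1 12 16 17 1, sw0 12 15, sw0 12 17,
    sw0 12 20, sw1 12 21 22 1, sw0 12 22, sw0 12 23, sw0 19 16, sw0 19 15, sw1 19 17 23 (-1),
    sw0 19 20, sw0 19 21, sw0 19 22, sw0 19 23, sw0 16 15, sw0 16 17, sw1 16 20 23 (-1),
    sw0 16 21, sw0 16 22, sw0 16 23, sw0 15 17, sw0 15 20, sw1 15 21 23 (-1), sw0 15 22,
    sw0 15 23, sw0 17 20, sw0 17 21, sw0 17 22, sw0 17 23, sw0 20 21, sw0 20 22, sw0 20 23,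
    sw0 21 22, sw0 21 23, sw0 22 23]
  constructor <;> iterate 11 refine congrArg₂ _ (congrArg _ (by push_cast; ring1)) ?_
  exacts [congrArg₂ _ (congrArg _ (by push_cast; ring1)) rfl, rfl]

theorem exists_span {φ : K →+* K} (h3 : ∀ t, φ (φ (φ t)) = t) {t : K} (ht : φ t ≠ t) (u : K) :
    ∃ a b c, φ a = a ∧ φ b = b ∧ φ c = c ∧ u = a + b * t + c * t⁻¹ := by
  have h0 : t ≠ 0 := by rintro rfl; simp at ht
  have h1 : φ (φ t) ≠ φ t := φ.injective.ne ht
  have h2 : t ≠ φ (φ t) := fun e => ht ((congrArg φ e).trans (h3 t))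
  obtain ⟨L, hL⟩ : ∃ L : (K → K → K) → K, ∀ p, L p =
    t * u * p (φ t) (φ (φ t)) / ((t - φ t) * (t - φ (φ t))) +
      φ t * φ u * p (φ (φ t)) t / ((φ t - φ (φ t)) * (φ t - t)) +
      φ (φ t) * φ (φ u) * p t (φ t) / ((φ (φ t) - t) * (φ (φ t) - φ t)) := ⟨_, fun _ => rfl⟩
  refine ⟨L fun x y => -(x + y), L fun _ _ => 1, L fun x y => x * y, ?_, ?_, ?_, ?_⟩
  iterate 3 simp only [hL, map_add, map_mul, map_div₀, map_sub, map_neg, map_one, h3]; ring
  have := sub_ne_zero.2 ht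
  have := sub_ne_zero.2 ht.symm
  have := sub_ne_zero.2 h1
  have := sub_ne_zero.2 h1.symm
  have := sub_ne_zero.2 h2
  have := sub_ne_zero.2 h2.symm
  simp only [hL]
  field_simp
  ring

theorem base_D4 : (CD4 K).Base (show ChevTab RD4 from checkedD4.T) 23 :=
  checkedD4.gsys_base (by simp) (θ := rtN chevD4 23) (by decide +kernel)

theorem ln_D4 : ∀ r, RD4.ln r = 1 := by decide +kernel

theorem wd_mem_XS {A : Set (Fin 24)} {w : List (ℕ × K)} (h : ∀ p ∈ w, ∃ r ∈ A, r.1 = p.1) :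
    wd checkedD4 w ∈ (CD4 K).XS A := Subgroup.list_prod_mem _ fun g hg => by
  obtain ⟨p, hp, rfl⟩ := List.mem_map.1 hg
  obtain ⟨r, hr, e⟩ := h p hp
  rw [← e, ← x_D4]
  exact (CD4 K).x_mem hr _

theorem rest_D4 {r : Fin 24} (hr : symD4.ρ r ≠ r ∧ symD4.ρ (symD4.ρ r) ≠ r) (b c : K) :
    wd checkedD4 [((symD4.ρ r).1, b), ((symD4.ρ (symD4.ρ r)).1, c)] ∈ (CD4 K).XS (symD4.rest r) :=
  wd_mem_XS (by
    have h1 := Perm.sameCycle_apply_right.2 (Perm.SameCycle.refl symD4.ρ r)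
    simpa using ⟨⟨_, And.intro h1 hr.1, rfl⟩, _, And.intro (Perm.sameCycle_apply_right.2 h1) hr.2, rfl⟩)

variable [Fintype K] {q : ℕ} {φ : K →+* K} (hφ : ∀ t, φ t = t ^ q) (hK : Fintype.card K = q ^ 3)
  {S : Twist (CD4 K) symD4} (hθ : ∀ i t, S.θ i t = t ^ q) {ϕ : chevD4.group K →* chevD4.group K}
  (hϕ : ∀ r t, ϕ ((CD4 K).x r t) = (CD4 K).x r (φ t))
include hφ hK hθ hϕ

theorem twF_D4 : S.TwF φ ϕ (KD4 K q) where
  tw := isTw_D4 hK hθ
  θ i := RingHom.ext fun t => (hθ i t).trans (hφ t).symm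
  fld := hϕ
  aut := isAut_sym (by rw [symD4_π, RD4_A]; decide) (by decide +kernel)
  α := by decide +kernel
  orth := by rw [symD4_orb, RD4_A]; decide
  ws k := ⟨keysD4.ws k, by revert k; decide, by rw [symD4_orb]; revert k; decide, keysD4.s_eq k⟩
  desc := by
    simp only [keysD4.s_eq, ht, α_wp]
    decide +kernel

theorem not_le_D4 (hq : 1 < q) : ¬ KD4 K q ≤ ϕ.eqLocus (MonoidHom.id _) := fun e => by
  obtain ⟨t, ht⟩ := (exists_ne_pow hq (by decide) hK).2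
  refine ht ((hφ t).symm.trans ((twF_D4 hφ hK hθ hϕ).fix_of_coord (r := 18) (by decide +kernel)
    (wd_mem_XS (w := [(13, t ^ q), (12, (t ^ q) ^ q)]) (by
      simpa using ⟨⟨13, by decide +kernel, rfl⟩, 12, by decide +kernel, rfl⟩)) (e ?_)))
  simpa [x_D4] using! triple_mem_KD4 (q := q) (r := 18) (s := 13) (u := 12) (by decide) t

omit [Fintype K] hK hθ hϕ in
theorem e1_mem (s : K) : wd checkedD4 [(18, s), (13, φ s), (12, φ (φ s))] ∈ KD4 K q := by
  simpa [hφ] using! triple_mem_KD4 (q := q) (r := 18) (s := 13) (u := 12) (by decide) s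

omit [Fintype K] hφ hK hθ in
theorem fld_xN (r : ℕ) (t : K) : ϕ (xN checkedD4 r t) = xN checkedD4 r (φ t) := by
  unfold xN
  split_ifs
  exacts [hϕ _ _, map_one _]

theorem fix_two {u v : chevD4.group K} (hu : u ∈ (CD4 K).XS {s | symD4.ρ.SameCycle 19 s})
    (hv : v ∈ (CD4 K).XS {s | 3 ≤ RD4.ht s}) (e : u * v ∈ KD4 K q) : u ∈ S.Fix := by
  have h := twF_D4 hφ hK hθ hϕ
  have k1 : RD4.IsPos 19 := by decide +kernel
  refine h.fix_left (h.isClosed k1 fun _ h => h) (isClosed_ht three_pos) (fun _ => h.isPos_of k1)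
    (fun r hr => (upper_ht three_pos r hr).1) (fun _ => Perm.sameCycle_apply_right.2)
    (fun r hr => hr.trans_eq (h.cmp.ht r).symm) (fun r h1 h2 => ?_) hu hv (h.tw.le_fix e)
  exact absurd (h2.trans_eq (h.ht_eq h1)) (by decide +kernel)

omit [Fintype K] hφ hK hθ hϕ in
theorem two_mem (a b c : K) :
    wd checkedD4 [(19, a), (16, b), (15, c)] ∈ (CD4 K).XS {s | symD4.ρ.SameCycle 19 s} :=
  mul_mem ((x_D4 19 a).subst (motive := (· ∈ (CD4 K).XS _)) ((CD4 K).x_mem (Perm.SameCycle.refl _ _) a))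
    ((CD4 K).XS_mono (fun _ h => h.1) (rest_D4 (r := 19) (by decide +kernel) b c))

omit [Fintype K] hφ hK hθ hϕ in
theorem three_mem {w : List (ℕ × K)} (h : ∀ p ∈ w, p.1 ∈ [17, 20, 21, 22, 23]) :
    wd checkedD4 w ∈ (CD4 K).XS {s | 3 ≤ RD4.ht s} := wd_mem_XS fun p hp =>
  (by decide +kernel : ∀ n ∈ [17, 20, 21, 22, 23], ∃ r : Fin 24, 3 ≤ RD4.ht r ∧ r.1 = n) _ (h p hp)

theorem e2_fix (s : K) : wd checkedD4 [(19, s), (16, -φ s), (15, -φ (φ s))] ∈ S.Fix := by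
  have h1 := single_mem_KD4 (K := K) (q := q) (r := 14) (by decide) (one_pow q)
  have h2 := e1_mem hφ (-s)
  have := mul_mem (mul_mem h2 h1) (one_mem _)
  rw [(words_D4 _ _ _ 0 0 0 0 0).1, mul_mem_cancel_left (mul_mem h1 h2)] at this
  simpa using fix_two hφ hK hθ hϕ (two_mem _ _ _) (mul_mem (three_mem (by simp))
    (three_mem (w := [(22, _), (23, _)]) (by simp))) this

variable {H : Subgroup (chevD4.group K)} (hH : KD4 K q ⊓ ϕ.eqLocus (MonoidHom.id _) ≤ H)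
  (hH' : H ≤ KD4 K q)
include hH hH'

theorem exists_three {z : chevD4.group K} (hz : z ∈ (CD4 K).XS {s | 2 ≤ RD4.ht s} ⊓ H) (e : ϕ z ≠ z) :
    ∃ z ∈ (CD4 K).XS {s | RD4.ht 17 ≤ RD4.ht s} ⊓ H, ϕ z ≠ z := by
  have h := twF_D4 hφ hK hθ hϕ
  rw [show RD4.ht 17 = 3 by decide +kernel]
  obtain ⟨t, rfl⟩ := (CD4 K).exists_prodL (isClosed_ht two_pos) (f := htL _)
    (fun r hr => two_pos.trans_le hr) (l := [19, 16, 15, 17, 20, 21, 22, 23]) (by decide)
    (by simp only [Set.mem_ofPred_eq]; decide +kernel) hz.1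
  rw [show (CD4 K).prodL [19, 16, 15, 17, 20, 21, 22, 23] t = wd checkedD4 [(19, t 19), (16, t 16), (15, t 15)] *
    wd checkedD4 [(17, t 17), (20, t 20), (21, t 21), (22, t 22), (23, t 23)] by
      simp [x_D4, mul_assoc]] at hz e
  have h1 := three_mem (w := [(17, t 17), (20, t 20), (21, t 21), (22, t 22), (23, t 23)]) (by simp)
  have h2 := h.eq_one_of_rest (r := 19) (by decide +kernel) (mul_mem (inv_mem (rest_D4 (by decide +kernel)
    (-φ (t 19)) (-φ (φ (t 19))))) (rest_D4 (by decide +kernel) (t 16) (t 15))) (by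
      simpa [mul_assoc] using! mul_mem (inv_mem (e2_fix hφ hK hθ hϕ (t 19)))
        (fix_two hφ hK hθ hϕ (two_mem _ _ _) h1 (hH' hz.2)))
  rw [wd_cons _ 19, show wd checkedD4 [(16, t 16), (15, t 15)] = _ from (inv_mul_eq_one.1 h2).symm] at hz e
  change wd checkedD4 [(19, t 19), (16, -φ (t 19)), (15, -φ (φ (t 19)))] * _ ∈ _ at hz
  by_cases h3 : φ (t 19) = t 19
  · have h4 : wd checkedD4 [(19, t 19), (16, -φ (t 19)), (15, -φ (φ (t 19)))] ∈
        KD4 K q ⊓ ϕ.eqLocus (MonoidHom.id _) :=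
      ⟨h.tw.U_le ⟨(CD4 K).XS_mono (fun _ => h.isPos_of (by decide +kernel)) (two_mem _ _ _),
        e2_fix hφ hK hθ hϕ _⟩, show ϕ _ = _ by simp [fld_xN hϕ, h3]⟩
    exact ⟨_, ⟨h1, (mul_mem_cancel_left (hH h4)).1 hz.2⟩, fun e' => e (mul_mem h4.2 e')⟩
  have h4 : wd checkedD4 [(18, 1), (13, 1), (12, 1)] ∈ H :=
    hH ⟨by simpa using e1_mem hφ 1, show ϕ _ = _ by simp [fld_xN hϕ]⟩
  have h5 := H.mul_mem hz.2 h4
  rw [(words_D4 _ _ _ _ _ _ _ _).2, mul_mem_cancel_left (H.mul_mem h4 hz.2)] at h5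
  refine ⟨_, ⟨three_mem (by simp), h5⟩, fun e' => h3 ?_⟩
  rw [wd_cons] at e'
  have := h.fix_of_coord (r := 17) (by decide +kernel) (wd_mem_XS (w := [(20, _), (21, _), (22, _), (23, _)])
    fun p hp => (by decide +kernel :
    ∀ n ∈ [20, 21, 22, 23], ∃ r : Fin 24, (RD4.IsPos r ∧ RD4.ht 17 ≤ RD4.ht r ∧ r ≠ 17) ∧ r.1 = n) _
      (by revert p; simp)) (by rw [x_D4]; exact e')
  rw [map_add, show φ (φ (φ (t 19))) = t 19 by simpa [h.θ] using θθθ_D4 hK hθ 0 0 0 (t 19)] at this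
  linear_combination -this

theorem par_all {t : K} (ht : t ∈ par (CD4 K) symD4 H 18) (e : φ t ≠ t) (u : K) :
    u ∈ par (CD4 K) symD4 H 18 := by
  have h := twF_D4 hφ hK hθ hϕ
  have h3 : ∀ t, φ (φ (φ t)) = t := fun t => by simpa [h.θ] using θθθ_D4 hK hθ 0 0 0 t
  have sm : ∀ {c t}, φ c = c → t ∈ par (CD4 K) symD4 H 18 → c * t ∈ par (CD4 K) symD4 H 18 :=
    h.mul_mem_par hH (γ := 14) (by decide +kernel) (by decide +kernel)
  have k1 : wp symD4.s [0] 18 = 19 := keysD4.wp_s_eq (by decide +kernel)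
  have k2 : wp symD4.s [1, 0] 18 = 17 := keysD4.wp_s_eq (by decide +kernel)
  have fx : ∀ (r : Fin 24) t, symD4.ρ r = r → φ t = t → xN checkedD4 r t ∈ H := fun r t h1 h2 =>
    hH ⟨x_D4 r t ▸ h.x_mem h1 h2, (fld_xN hϕ _ _).trans (by rw [h2]; rfl)⟩
  have h4 : wd checkedD4 [(18, t), (13, φ t), (12, φ (φ t))] ∈ H := by
    erw [wd_cons, ← x_D4 18]
    exact h.mem_of_par hH' (by decide +kernel) (rest_D4 (by decide +kernel) _ _)
      (by rw [x_D4]; exact h.tw.le_fix (e1_mem hφ t)) ht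
  have h5 : wd checkedD4 [(19, -t), (16, φ t), (15, φ (φ t))] ∈ H := by
    obtain ⟨c, h0, h1, h2⟩ := h.par_conj (Sym.wp_mem_W1 [0]) 18
    erw [wd_cons, ← x_D4 19]
    refine h.mem_of_par hH' (by decide +kernel) (rest_D4 (by decide +kernel) _ _)
      (by simpa [x_D4] using! e2_fix hφ hK hθ hϕ (-t)) ?_
    simpa [h0, ← k1] using h2 H hH _ (sm (c := -c⁻¹) (by simp [h1]) ht)
  have h6 : φ (t * φ t * φ (φ t)) = t * φ t * φ (φ t) := by simp only [map_mul, h3]; ring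
  have h7 := fx 14 1 (by decide +kernel) (map_one φ)
  have h8 := mul_mem (mul_mem h4 h7) (one_mem _)
  erw [(words_D4 _ _ _ 0 0 0 0 0).1, mul_mem_cancel_left (mul_mem h7 h4), mul_mem_cancel_left h5,
    mul_mem_cancel_right (mul_mem (fx 22 _ (by decide +kernel) (by rw [map_neg, h6])) (mul_mem
      (fx 23 _ (by decide +kernel) (by rw [map_mul, h6, map_ofNat])) (one_mem _)))] at h8
  have h9 : t⁻¹ ∈ par (CD4 K) symD4 H 18 := by
    obtain ⟨c, h0, h1, h2⟩ := h.par_conj (inv_mem (Sym.wp_mem_W1 [1, 0])) 17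
    have h0' : t ≠ 0 := by rintro rfl; simp at e
    have := sm (c := -(c * (t * φ t * φ (φ t)))⁻¹) (by rw [map_neg, map_inv₀, map_mul, h1, h6])
      (by simpa only [← k2, Perm.inv_def, symm_apply_apply] using
        h2 H hH _ ⟨_, rest_D4 (by decide +kernel) _ _, by rw [x_D4]; exact h8⟩)
    convert this using 1
    have := (map_ne_zero φ).2 h0'
    have := (map_ne_zero φ).2 this
    field_simp
  obtain ⟨a, b, c, ha, hb, hc, rfl⟩ := exists_span h3 e u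
  obtain ⟨y, hy, h10⟩ := h.mem_par 18 ha
  exact h.add_mem_par (by decide +kernel) (h.add_mem_par (by decide +kernel) ⟨y, hy, hH h10⟩ (sm hb ht))
    (sm hc h9)

theorem le_or_D4 (p : ℕ) [Fact p.Prime] [CharP K p] : H ≤ ϕ.eqLocus (MonoidHom.id _) ∨ KD4 K q ≤ H := by
  have h := twF_D4 hφ hK hθ hϕ
  refine (h.le_or base_D4 p (by decide +kernel) two_pos
    (by rw [symD4_orb]; decide) (fun r s => (ln_D4 r).trans (ln_D4 s).symm)
    (by rw [symD4_orb]; decide +kernel) hH hH').imp_right fun ⟨z, hz, e⟩ => ?_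
  obtain ⟨z, hz, e⟩ := exists_three hφ hK hθ hϕ hH hH' hz e
  have k1 : wp symD4.s [1, 0] 18 = 17 := keysD4.wp_s_eq (by decide +kernel)
  have k3 : ∀ r, RD4.ht 17 ≤ RD4.ht r → symD4.ρ r = r ∨ r = 17 ∨ r = symD4.ρ 17 ∨
    r = symD4.ρ (symD4.ρ 17) := by decide +kernel
  obtain ⟨t, ht, h1⟩ := (h.par_transfer hH (Sym.wp_mem_W1 [1, 0]) (r := 18)).1 (by
    rw [k1]
    refine h.exists_mem_par (by decide +kernel) (fun r hr => (k3 r hr).imp_right ?_) hH hH' hz e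
    rintro (rfl | rfl | rfl) <;> simp [Perm.SameCycle.refl])
  refine h.le_of_par (gen_D4 hK hθ) hH hH' fun k => ?_
  fin_cases k
  exacts [⟨1, rfl, .inl rfl⟩, ⟨0, rfl, .inr (by
    rw [show RD4.simple 0 = 18 by decide +kernel]; exact par_all hφ hK hθ hϕ hH hH' ht h1)⟩]

end Cfsg.Lib.Twisted
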